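import Mathlib
import Groth.Prelude.Def_DTen4
import Groth.Agent.Lib.Helper3.AdjHtpyPlus

/-!
# Extension of scalars preserves K-projective complexes
-/

set_option autoImplicit false
set_option linter.unusedSectionVars false
set_option linter.unusedVariables false
universe u
open CategoryTheory CategoryTheory.Limits

namespace Helper5.Gen

open DTen Groth.Agent.Helper3.AdjHtpyPlus

variable {R A : Type u} [CommRing R] [CommRing A] (φ : R →+* A)

lemma acyclic_resCx (L : DRing.Cx A) (hL : L.Acyclic) : ((resCx φ).obj L).Acyclic := by
  intro i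
  exact ShortComplex.Exact.map (hL i) (ModuleCat.restrictScalars.{u} φ)

/-- extension of scalars preserves K-projective complexes -/
instance isKProjective_extCx (F : DRing.Cx R) [F.IsKProjective] :
    ((extCx φ).obj F).IsKProjective := by
  refine ⟨fun {L} g hL => ?_⟩
  let adj := ModuleCat.extendRestrictScalarsAdj.{u, u, u} φ
  let g' : F ⟶ (resCx φ).obj L := unitC adj (ComplexShape.up ℤ) F ≫ (resCx φ).map g
  have h0 : Homotopy g' 0 :=
    CochainComplex.IsKProjective.homotopyZero g' (acyclic_resCx φ L hL)
  have hg : g = (extCx φ).map g' ≫ counitC adj (ComplexShape.up ℤ) L := by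
    dsimp only [g']
    rw [Functor.map_comp, Category.assoc]
    have := counitC_naturality adj (ComplexShape.up ℤ) g
    erw [this]
    have h2 := left_triangleC adj (ComplexShape.up ℤ) F
    erw [reassoc_of% h2]
  have h1 : Homotopy ((extCx φ).map g') ((extCx φ).map 0) :=
    (ModuleCat.extendScalars.{u, u, u} φ).mapHomotopy h0
  rw [Functor.map_zero] at h1
  refine ⟨(Homotopy.ofEq hg).trans ((h1.compRight _).trans (Homotopy.ofEq zero_comp))⟩

end Helper5.Gen
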