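import Mathlib
import Groth.Prelude.Def_Wider
import Groth.Prelude.Def_DDual2
import Groth.Agent.Lib.Helper5.KProj.Tri
import Groth.Agent.Lib.Helper5.DTenLib.Basic

/-!
# Natural transformations on `D(R)` from their components on K-projective complexes
-/

set_option autoImplicit false
set_option linter.unusedSectionVars false
set_option linter.unusedVariables false
universe u
open CategoryTheory CategoryTheory.Limits
attribute [local instance] HasDerivedCategory.standard

namespace Helper5.Gen

open DerivedCategory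

variable {R : Type u} [CommRing R]

/-- a family of maps `T(QF) ⟶ S(QF)` for `F` K-projective, natural for chain maps, is the
restriction of a natural transformation `T ⟶ S` on `D(R)`. -/
theorem exists_natTrans {𝒟 : Type*} [Category 𝒟] (T S : Dual.D R ⥤ 𝒟)
    (t : ∀ (F : DRing.Cx R), F.IsKProjective → (T.obj (Q.obj F) ⟶ S.obj (Q.obj F)))
    (ht : ∀ (F F' : DRing.Cx R) (hF : F.IsKProjective) (hF' : F'.IsKProjective) (f : F ⟶ F'),
      T.map (Q.map f) ≫ t F' hF' = t F hF ≫ S.map (Q.map f)) :
    ∃ τ : T ⟶ S, ∀ (F : DRing.Cx R) (hF : F.IsKProjective), τ.app (Q.obj F) = t F hF := by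
  classical
  choose P hP e using fun K : Dual.D R => Groth.Agent.Lib.Helper5.KProj.exists_kproj_rep K
  let ε : ∀ K : Dual.D R, Q.obj (P K) ≅ K := fun K => (e K).some
  let app : ∀ K : Dual.D R, T.obj K ⟶ S.obj K := fun K =>
    T.map (ε K).inv ≫ t (P K) (hP K) ≫ S.map (ε K).hom
  -- key: compatibility with arbitrary morphisms between K-projective representatives
  have key : ∀ (F F' : DRing.Cx R) (hF : F.IsKProjective) (hF' : F'.IsKProjective)
      (g : Q.obj F ⟶ Q.obj F'), T.map g ≫ t F' hF' = t F hF ≫ S.map g := by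
    intro F F' hF hF' g
    have := hF
    obtain ⟨f, rfl⟩ := Groth.Agent.Lib.Helper5.DTenLib.exists_Q_map_eq F F' g
    exact ht F F' hF hF' f
  have nat : ∀ {K K' : Dual.D R} (g : K ⟶ K'), T.map g ≫ app K' = app K ≫ S.map g := by
    intro K K' g
    have h := key (P K) (P K') (hP K) (hP K') ((ε K).hom ≫ g ≫ (ε K').inv)
    dsimp only [app]
    have e1 : T.map (g ≫ (ε K').inv) =
        T.map (ε K).inv ≫ T.map ((ε K).hom ≫ g ≫ (ε K').inv) := by
      rw [← T.map_comp]
      congr 1
      simp
    have e2 : ((ε K).hom ≫ g ≫ (ε K').inv) ≫ (ε K').hom = (ε K).hom ≫ g := by simp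
    calc T.map g ≫ T.map (ε K').inv ≫ t (P K') (hP K') ≫ S.map (ε K').hom
        = T.map (g ≫ (ε K').inv) ≫ t (P K') (hP K') ≫ S.map (ε K').hom := by
          rw [T.map_comp, Category.assoc]
      _ = T.map (ε K).inv ≫ (T.map ((ε K).hom ≫ g ≫ (ε K').inv) ≫ t (P K') (hP K')) ≫
            S.map (ε K').hom := by
          rw [e1, Category.assoc, Category.assoc]
      _ = T.map (ε K).inv ≫ t (P K) (hP K) ≫ S.map (((ε K).hom ≫ g ≫ (ε K').inv) ≫ (ε K').hom) := by
          rw [h, Category.assoc, ← S.map_comp]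
      _ = (T.map (ε K).inv ≫ t (P K) (hP K) ≫ S.map (ε K).hom) ≫ S.map g := by
          rw [e2, S.map_comp, Category.assoc, Category.assoc]
  refine ⟨{ app := app, naturality := fun K K' g => nat g }, ?_⟩
  intro F hF
  change app (Q.obj F) = _
  dsimp only [app]
  have h := key _ _ hF (hP (Q.obj F)) (ε (Q.obj F)).inv
  rw [reassoc_of% h, ← S.map_comp, Iso.inv_hom_id, S.map_id, Category.comp_id]

end Helper5.Gen
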