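import Mathlib

/-!
# Weakly exact functors between pretriangulated categories and the isomorphism locus of a
natural transformation
-/

set_option autoImplicit false
set_option linter.unusedSectionVars false
set_option linter.unusedVariables false
set_option linter.style.haveILetI false
universe u
open CategoryTheory CategoryTheory.Limits Pretriangulated ZeroObject

namespace Helper5.Gen

variable {C : Type*} [Category C] [HasZeroObject C] [HasShift C ℤ] [Preadditive C]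
  [∀ n : ℤ, (shiftFunctor C n).Additive] [Pretriangulated C]
  {D : Type*} [Category D] [Preadditive D]

/-- `Hom(W, F -)` is exact in the middle on distinguished triangles -/
def CoyExact (F : C ⥤ D) : Prop :=
  ∀ T ∈ distTriang C, F.map T.mor₁ ≫ F.map T.mor₂ = 0 ∧
    ∀ (W : D) (g : W ⟶ F.obj T.obj₂), g ≫ F.map T.mor₂ = 0 →
      ∃ g' : W ⟶ F.obj T.obj₁, g = g' ≫ F.map T.mor₁

theorem CoyExact.of_iso {F F' : C ⥤ D} (e : F ≅ F') (h : CoyExact F) : CoyExact F' := by
  intro T hT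
  obtain ⟨h0, hex⟩ := h T hT
  constructor
  · have : F'.map T.mor₁ ≫ F'.map T.mor₂ =
        e.inv.app _ ≫ (F.map T.mor₁ ≫ F.map T.mor₂) ≫ e.hom.app _ := by
      simp
    rw [this, h0, zero_comp, comp_zero]
  · intro W g hg
    obtain ⟨g', hg'⟩ := hex W (g ≫ e.inv.app _) (by
      rw [Category.assoc, ← e.inv.naturality, reassoc_of% hg, zero_comp])
    refine ⟨g' ≫ e.hom.app _, ?_⟩
    rw [Category.assoc, ← e.hom.naturality, ← reassoc_of% hg']
    simp

/-- a right adjoint of a triangulated functor is weakly exact -/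
theorem coyExact_rightAdjoint {C' : Type*} [Category C'] [HasZeroObject C'] [HasShift C' ℤ]
    [Preadditive C'] [∀ n : ℤ, (shiftFunctor C' n).Additive] [Pretriangulated C']
    {L : C' ⥤ C} {R : C ⥤ C'} (adj : L ⊣ R) :
    CoyExact R := by
  haveI : R.IsRightAdjoint := ⟨L, ⟨adj⟩⟩
  haveI : PreservesLimitsOfSize.{0, 0} R := adj.rightAdjoint_preservesLimits
  haveI : R.PreservesZeroMorphisms := Functor.preservesZeroMorphisms_of_preserves_terminal_object
  intro T hT
  constructor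
  · rw [← Functor.map_comp, comp_distTriang_mor_zero₁₂ _ hT, Functor.map_zero]
  · intro W g hg
    obtain ⟨g', hg'⟩ := Triangle.coyoneda_exact₂ T hT ((adj.homEquiv _ _).symm g) (by
      apply (adj.homEquiv _ _).injective
      rw [adj.homEquiv_naturality_right, Equiv.apply_symm_apply, hg, Adjunction.homEquiv_unit,
        Functor.map_zero, comp_zero])
    refine ⟨adj.homEquiv _ _ g', ?_⟩
    rw [← adj.homEquiv_naturality_right, ← hg', Equiv.apply_symm_apply]

/-- a triangulated functor is weakly exact -/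
theorem coyExact_of_isTriangulated [HasZeroObject D] [HasShift D ℤ]
    [∀ n : ℤ, (shiftFunctor D n).Additive] [Pretriangulated D]
    (F : C ⥤ D) [F.CommShift ℤ] [F.IsTriangulated] : CoyExact F := by
  intro T hT
  have hT' := F.map_distinguished T hT
  constructor
  · exact comp_distTriang_mor_zero₁₂ _ hT'
  · intro W g hg
    exact Triangle.coyoneda_exact₂ _ hT' g hg

/-- the composition of a triangulated functor and a weakly exact functor -/
theorem CoyExact.comp_triangulated {C' : Type*} [Category C'] [HasZeroObject C'] [HasShift C' ℤ]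
    [Preadditive C'] [∀ n : ℤ, (shiftFunctor C' n).Additive] [Pretriangulated C']
    (G : C' ⥤ C) [G.CommShift ℤ] [G.IsTriangulated] {F : C ⥤ D} (h : CoyExact F) :
    CoyExact (G ⋙ F) := by
  intro T hT
  exact h _ (G.map_distinguished T hT)

section Five

variable {F₁ F₂ : C ⥤ D} (τ : F₁ ⟶ F₂)

/-- exactness of `Hom(W, F -)` at the middle of a pair of composable maps -/
def ExactAt (F : C ⥤ D) {X Y Z : C} (a : X ⟶ Y) (b : Y ⟶ Z) : Prop :=
  F.map a ≫ F.map b = 0 ∧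
    ∀ (W : D) (g : W ⟶ F.obj Y), g ≫ F.map b = 0 → ∃ g' : W ⟶ F.obj X, g = g' ≫ F.map a

theorem CoyExact.exactAt {F : C ⥤ D} (h : CoyExact F) (T : Triangle C) (hT : T ∈ distTriang C) :
    ExactAt F T.mor₁ T.mor₂ := h T hT

/-- a pair of maps whose image is isomorphic to the first two maps of a distinguished triangle
is exact -/
theorem exactAt_of_iso_distTriang [HasZeroObject D] [HasShift D ℤ]
    [∀ n : ℤ, (shiftFunctor D n).Additive] [Pretriangulated D]
    (F : C ⥤ D) {X Y Z : C} (a : X ⟶ Y) (b : Y ⟶ Z)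
    (T' : Triangle D) (hT' : T' ∈ distTriang D)
    (i₁ : F.obj X ≅ T'.obj₁) (i₂ : F.obj Y ≅ T'.obj₂) (i₃ : F.obj Z ≅ T'.obj₃)
    (c₁ : F.map a ≫ i₂.hom = i₁.hom ≫ T'.mor₁) (c₂ : F.map b ≫ i₃.hom = i₂.hom ≫ T'.mor₂) :
    ExactAt F a b := by
  constructor
  · rw [← cancel_mono i₃.hom, Category.assoc, c₂, reassoc_of% c₁,
      comp_distTriang_mor_zero₁₂ _ hT', comp_zero, zero_comp]
  · intro W g hg
    obtain ⟨g', hg'⟩ := Triangle.coyoneda_exact₂ T' hT' (g ≫ i₂.hom) (by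
      rw [Category.assoc, ← c₂, reassoc_of% hg, zero_comp])
    refine ⟨g' ≫ i₁.inv, ?_⟩
    rw [← cancel_mono i₂.hom, hg', Category.assoc, Category.assoc, c₁, Iso.inv_hom_id_assoc]

/-- exactness is invariant under isomorphisms of the pair of maps -/
theorem ExactAt.of_iso {F : C ⥤ D} {X Y Z X' Y' Z' : C} {a : X ⟶ Y} {b : Y ⟶ Z}
    {a' : X' ⟶ Y'} {b' : Y' ⟶ Z'} (h : ExactAt F a b)
    (e₁ : X ≅ X') (e₂ : Y ≅ Y') (e₃ : Z ≅ Z')
    (c₁ : a ≫ e₂.hom = e₁.hom ≫ a') (c₂ : b ≫ e₃.hom = e₂.hom ≫ b') : ExactAt F a' b' := by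
  obtain ⟨h0, hex⟩ := h
  have ha' : a' = e₁.inv ≫ a ≫ e₂.hom := by rw [c₁, Iso.inv_hom_id_assoc]
  have hb' : b' = e₂.inv ≫ b ≫ e₃.hom := by rw [c₂, Iso.inv_hom_id_assoc]
  constructor
  · rw [ha', hb', Functor.map_comp, Functor.map_comp, Functor.map_comp, Functor.map_comp,
      Category.assoc, Category.assoc, ← F.map_comp_assoc e₂.hom, Iso.hom_inv_id,
      CategoryTheory.Functor.map_id, Category.id_comp, reassoc_of% h0, zero_comp, comp_zero]
  · intro W g hg
    obtain ⟨g', hg'⟩ := hex W (g ≫ F.map e₂.inv) (by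
      rw [hb', Functor.map_comp, Functor.map_comp, ← Category.assoc, ← Category.assoc] at hg
      have h2 : ((g ≫ F.map e₂.inv) ≫ F.map b) ≫ F.map e₃.hom ≫ F.map e₃.inv = 0 := by
        rw [← Category.assoc, hg, zero_comp]
      rw [← F.map_comp, Iso.hom_inv_id, CategoryTheory.Functor.map_id, Category.comp_id] at h2
      rw [Category.assoc] at h2 ⊢
      exact h2)
    refine ⟨g' ≫ F.map e₁.hom, ?_⟩
    rw [ha', Functor.map_comp, Functor.map_comp, Category.assoc, ← F.map_comp_assoc e₁.hom,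
      Iso.hom_inv_id, CategoryTheory.Functor.map_id, Category.id_comp, ← reassoc_of% hg',
      ← F.map_comp, Iso.inv_hom_id, CategoryTheory.Functor.map_id, Category.comp_id]

/-- the abstract five lemma -/
theorem five {A₁ A₂ A₃ A₄ A₅ : C} (a₁ : A₁ ⟶ A₂) (a₂ : A₂ ⟶ A₃) (a₃ : A₃ ⟶ A₄) (a₄ : A₄ ⟶ A₅)
    (e12 : ExactAt F₁ a₁ a₂) (e13 : ExactAt F₁ a₂ a₃) (e14 : ExactAt F₁ a₃ a₄)
    (e22 : ExactAt F₂ a₁ a₂) (e23 : ExactAt F₂ a₂ a₃) (e24 : ExactAt F₂ a₃ a₄)
    [IsIso (τ.app A₁)] [IsIso (τ.app A₂)] [IsIso (τ.app A₄)] [IsIso (τ.app A₅)] :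
    IsIso (τ.app A₃) := by
  obtain ⟨z0, e0⟩ := e12
  obtain ⟨z1, e1⟩ := e13
  obtain ⟨z2, e2⟩ := e14
  obtain ⟨w0, f0⟩ := e22
  obtain ⟨w1, f1⟩ := e23
  obtain ⟨w2, f2⟩ := e24
  have inj : ∀ (W : D) (g : W ⟶ F₁.obj A₃), g ≫ τ.app A₃ = 0 → g = 0 := by
    intro W g hg
    have s1 : g ≫ F₁.map a₃ = 0 := by
      rw [← cancel_mono (τ.app A₄), Category.assoc, τ.naturality, reassoc_of% hg, zero_comp,
        zero_comp]
    obtain ⟨g', rfl⟩ := e1 W g s1
    have s3 : (g' ≫ τ.app A₂) ≫ F₂.map a₂ = 0 := by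
      rw [Category.assoc, ← τ.naturality, ← Category.assoc, hg]
    obtain ⟨g'', hg''⟩ := f0 W _ s3
    have s4 : g' = (g'' ≫ inv (τ.app A₁)) ≫ F₁.map a₁ := by
      rw [← cancel_mono (τ.app A₂), hg'', Category.assoc, Category.assoc, τ.naturality,
        IsIso.inv_hom_id_assoc]
    rw [s4, Category.assoc, z0, comp_zero]
  refine isIso_of_yoneda_map_bijective _ (fun W => ⟨?_, ?_⟩)
  · intro g₁ g₂ hg
    dsimp at hg
    have := inj W (g₁ - g₂) (by rw [Preadditive.sub_comp, hg, sub_self])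
    exact sub_eq_zero.1 this
  · intro y
    have s1 : ((y ≫ F₂.map a₃) ≫ inv (τ.app A₄)) ≫ F₁.map a₄ = 0 := by
      rw [← cancel_mono (τ.app A₅), Category.assoc, Category.assoc, τ.naturality,
        IsIso.inv_hom_id_assoc, Category.assoc, zero_comp, w2, comp_zero]
    obtain ⟨x₂, hx₂⟩ := e2 W _ s1
    have s2 : (y - x₂ ≫ τ.app A₃) ≫ F₂.map a₃ = 0 := by
      rw [Preadditive.sub_comp, Category.assoc, ← τ.naturality, ← reassoc_of% hx₂]
      simp
    obtain ⟨y₁, hy₁⟩ := f1 W _ s2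
    refine ⟨x₂ + (y₁ ≫ inv (τ.app A₂)) ≫ F₁.map a₂, ?_⟩
    dsimp
    rw [Preadditive.add_comp, Category.assoc, Category.assoc, τ.naturality,
      IsIso.inv_hom_id_assoc, ← hy₁]
    abel

/-- the five lemma for a natural transformation between weakly exact functors -/
theorem isIso_app_obj₂ (h₁ : CoyExact F₁) (h₂ : CoyExact F₂) (T : Triangle C)
    (hT : T ∈ distTriang C)
    (i₀ : IsIso (τ.app T.invRotate.obj₁)) (i₁ : IsIso (τ.app T.obj₁))
    (i₃ : IsIso (τ.app T.obj₃)) (i₄ : IsIso (τ.app (T.obj₁⟦(1 : ℤ)⟧))) :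
    IsIso (τ.app T.obj₂) := by
  have hT' := inv_rot_of_distTriang _ hT
  have hT'' := rot_of_distTriang _ hT
  exact @five _ _ _ _ _ _ _ _ _ _ _ _ τ T.invRotate.obj₁ T.obj₁ T.obj₂ T.obj₃ (T.obj₁⟦(1 : ℤ)⟧)
    T.invRotate.mor₁ T.mor₁ T.mor₂ T.mor₃
    (h₁.exactAt _ hT') (h₁.exactAt _ hT) (h₁.exactAt _ hT'')
    (h₂.exactAt _ hT') (h₂.exactAt _ hT) (h₂.exactAt _ hT'') i₀ i₁ i₃ i₄

end Five

section Locus

variable {F₁ F₂ : C ⥤ D} (τ : F₁ ⟶ F₂)

/-- objects all of whose shifts are sent to isomorphisms by `τ` -/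
def isoLocus : ObjectProperty C := fun K => ∀ n : ℤ, IsIso (τ.app (K⟦n⟧))

theorem isIso_app_of_iso {X Y : C} (e : X ≅ Y) (h : IsIso (τ.app X)) : IsIso (τ.app Y) := by
  have : τ.app Y = F₁.map e.inv ≫ τ.app X ≫ F₂.map e.hom := by
    rw [← τ.naturality, ← Category.assoc, ← F₁.map_comp, e.inv_hom_id,
      CategoryTheory.Functor.map_id, Category.id_comp]
  rw [this]
  infer_instance

instance : (isoLocus τ).IsClosedUnderIsomorphisms where
  of_iso e h n := isIso_app_of_iso τ ((shiftFunctor C n).mapIso e) (h n)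

theorem isoLocus_shift (K : C) (h : isoLocus τ K) (a : ℤ) : isoLocus τ (K⟦a⟧) := fun n =>
  isIso_app_of_iso τ ((shiftFunctorAdd' C a n (a + n) rfl).app K) (h (a + n))

theorem isoLocus_app (K : C) (h : isoLocus τ K) : IsIso (τ.app K) :=
  isIso_app_of_iso τ ((shiftFunctorZero C ℤ).app K) (h 0)

instance : (isoLocus τ).IsStableUnderShift ℤ where
  isStableUnderShiftBy a := ⟨fun K h => isoLocus_shift τ K h a⟩

theorem isZero_obj_of_isZero {F : C ⥤ D} (h : CoyExact F) (Z : C) (hZ : IsZero Z) :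
    IsZero (F.obj Z) := by
  obtain ⟨h0, -⟩ := h _ (contractible_distinguished Z)
  have h0' : F.map (𝟙 Z) ≫ F.map (0 : Z ⟶ (0 : C)) = 0 := h0
  rw [IsZero.iff_id_eq_zero]
  have e : Z ≅ (0 : C) := hZ.iso (isZero_zero C)
  have h2 : F.map (0 : Z ⟶ (0 : C)) = F.map e.hom := by
    congr 1
    exact hZ.eq_of_src _ _
  have h3 : F.map e.hom = 0 := by
    rw [← h2, ← Category.id_comp (F.map (0 : Z ⟶ (0 : C))), ← F.map_id, h0']
  have : IsIso (F.map e.hom) := inferInstance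
  rw [← cancel_mono (F.map e.hom), h3, comp_zero, comp_zero]

theorem isoLocus_containsZero (h₁ : CoyExact F₁) (h₂ : CoyExact F₂) :
    (isoLocus τ).ContainsZero where
  exists_zero := ⟨(0 : C), isZero_zero C, fun n => by
    have hz : IsZero ((0 : C)⟦n⟧) := (shiftFunctor C n).map_isZero (isZero_zero C)
    exact ⟨(0 : F₂.obj ((0 : C)⟦n⟧) ⟶ F₁.obj ((0 : C)⟦n⟧)),
      (isZero_obj_of_isZero h₁ _ hz).eq_of_src _ _,
      (isZero_obj_of_isZero h₂ _ hz).eq_of_src _ _⟩⟩

theorem isoLocus_isTriangulated (h₁ : CoyExact F₁) (h₂ : CoyExact F₂) :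
    (isoLocus τ).IsTriangulated := by
  haveI := isoLocus_containsZero τ h₁ h₂
  haveI : (isoLocus τ).IsTriangulatedClosed₂ := ObjectProperty.IsTriangulatedClosed₂.mk' (by
    intro T hT i1 i3 n
    have hTn := Triangle.shift_distinguished T hT n
    exact isIso_app_obj₂ τ h₁ h₂ _ hTn
      (isoLocus_app τ _ (isoLocus_shift τ _ (isoLocus_shift τ _ i3 n) (-1)))
      (i1 n) (i3 n) (isoLocus_app τ _ (isoLocus_shift τ _ (isoLocus_shift τ _ i1 n) 1)))
  exact {}

end Locus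

end Helper5.Gen
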