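import Mathlib
import Groth.Agent.Lib.Helper5.Gen.CoyEx

/-!
# Functors preserving coproducts and the isomorphism locus
-/

set_option autoImplicit false
set_option linter.unusedSectionVars false
universe w
open CategoryTheory CategoryTheory.Limits

namespace Helper5.Gen

variable {C : Type*} [Category C] {D : Type*} [Category D]

/-- `F` preserves coproducts indexed by types in `Type w` -/
def PresCoprod (F : C ⥤ D) : Prop :=
  ∀ (J : Type w) (X : J → C) (P : C) (g : ∀ j, X j ⟶ P), IsColimit (Cofan.mk P g) →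
    Nonempty (IsColimit (Cofan.mk (F.obj P) (fun j => F.map (g j))))

theorem presCoprod_of_preserves (F : C ⥤ D)
    [∀ J : Type w, PreservesColimitsOfShape (Discrete J) F] : PresCoprod.{w} F := by
  intro J X P g hc
  exact ⟨isColimitCofanMkObjOfIsColimit F X g hc⟩

theorem presCoprod_of_adjunction {F : C ⥤ D} {G : D ⥤ C} (adj : F ⊣ G) : PresCoprod.{w} F := by
  haveI : PreservesColimitsOfSize.{w, w} F := adj.leftAdjoint_preservesColimits
  exact presCoprod_of_preserves F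

theorem PresCoprod.comp {E : Type*} [Category E] {F : C ⥤ D} {G : D ⥤ E}
    (hF : PresCoprod.{w} F) (hG : PresCoprod.{w} G) : PresCoprod.{w} (F ⋙ G) := by
  intro J X P g hc
  obtain ⟨h1⟩ := hF J X P g hc
  exact hG J _ _ _ h1

theorem PresCoprod.of_iso {F F' : C ⥤ D} (e : F ≅ F') (hF : PresCoprod.{w} F) :
    PresCoprod.{w} F' := by
  intro J X P g hc
  obtain ⟨h1⟩ := hF J X P g hc
  refine ⟨(IsColimit.precomposeHomEquiv (Discrete.natIso fun j => e.app (X j.as)) _).1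
    (IsColimit.ofIsoColimit h1 (Cocone.ext (e.app P) ?_))⟩
  rintro ⟨j⟩
  simp

/-- a natural transformation between functors preserving coproducts is an isomorphism on a
coproduct of objects on which it is an isomorphism -/
theorem isIso_app_of_isColimit {F₁ F₂ : C ⥤ D} (τ : F₁ ⟶ F₂) (h₁ : PresCoprod.{w} F₁)
    (h₂ : PresCoprod.{w} F₂) {J : Type w} (X : J → C) (P : C) (g : ∀ j, X j ⟶ P)
    (hc : IsColimit (Cofan.mk P g)) (hX : ∀ j, IsIso (τ.app (X j))) : IsIso (τ.app P) := by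
  obtain ⟨c₁⟩ := h₁ J X P g hc
  obtain ⟨c₂⟩ := h₂ J X P g hc
  let i : F₂.obj P ⟶ F₁.obj P :=
    Cofan.IsColimit.desc c₂ (fun j => inv (τ.app (X j)) ≫ F₁.map (g j))
  have hi : ∀ j, F₂.map (g j) ≫ i = inv (τ.app (X j)) ≫ F₁.map (g j) := fun j =>
    Cofan.IsColimit.fac c₂ _ j
  refine ⟨i, ?_, ?_⟩
  · refine Cofan.IsColimit.hom_ext c₁ _ _ (fun j => ?_)
    show F₁.map (g j) ≫ τ.app P ≫ i = F₁.map (g j) ≫ 𝟙 _
    rw [τ.naturality_assoc, hi, IsIso.hom_inv_id_assoc, Category.comp_id]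
  · refine Cofan.IsColimit.hom_ext c₂ _ _ (fun j => ?_)
    show F₂.map (g j) ≫ i ≫ τ.app P = F₂.map (g j) ≫ 𝟙 _
    rw [reassoc_of% (hi j), τ.naturality, IsIso.inv_hom_id_assoc, Category.comp_id]

variable [HasShift C ℤ]

/-- the isomorphism locus is closed under coproducts -/
theorem isoLocus_of_isColimit {F₁ F₂ : C ⥤ D} (τ : F₁ ⟶ F₂) (h₁ : PresCoprod.{w} F₁)
    (h₂ : PresCoprod.{w} F₂) {J : Type w} (X : J → C) (P : C) (g : ∀ j, X j ⟶ P)
    (hc : IsColimit (Cofan.mk P g)) (hX : ∀ j, isoLocus τ (X j)) : isoLocus τ P := by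
  intro n
  have hcn : IsColimit (Cofan.mk (P⟦n⟧) (fun j => (g j)⟦n⟧')) :=
    isColimitCofanMkObjOfIsColimit (shiftFunctor C n) X g hc
  exact isIso_app_of_isColimit τ h₁ h₂ (fun j => (X j)⟦n⟧) (P⟦n⟧) _ hcn (fun j => hX j n)

end Helper5.Gen
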