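import Mathlib
import Groth.Agent.Lib.Helper3.DCoprod
import Groth.Agent.Lib.Helper5.Gen.Coprod

/-!
# A sequential colimit of complexes of modules as a homotopy colimit
-/

set_option autoImplicit false
set_option linter.unusedSectionVars false
universe u
open CategoryTheory CategoryTheory.Limits
attribute [local instance] HasDerivedCategory.standard

namespace Helper5.Gen

open Groth.Agent.Helper3.DCoprod

variable {R : Type u} [CommRing R]

/-- complexes of modules -/
abbrev Cx (R : Type u) [CommRing R] := CochainComplex (ModuleCat.{u} R) ℤ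

section Termwise

variable {J : Type*} [HasCoproductsOfShape J (ModuleCat.{u} R)]

lemma cK_hom_ext {K : J → Cx R} {L : Cx R} (a b : cK K ⟶ L)
    (h : ∀ j, inK K j ≫ a = inK K j ≫ b) : a = b := by
  ext n : 1
  apply Limits.Sigma.hom_ext
  intro j
  exact congrArg (fun t => t.f n) (h j)

end Termwise

section Seq

variable (D : ℕ ⥤ Cx R) (c : Cocone D) (hc : IsColimit c)

/-- the family of stages -/
abbrev fam : ℕ → Cx R := fun k => D.obj k

/-- the transition maps -/
abbrev tr (k : ℕ) : D.obj k ⟶ D.obj (k + 1) := D.map (homOfLE (Nat.le_add_right k 1))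

/-- the shift map on the coproduct -/
noncomputable def sh : cK (fam D) ⟶ cK (fam D) :=
  descK (fun k => tr D k ≫ inK (fam D) (k + 1))

/-- the projection to the colimit -/
noncomputable def pr : cK (fam D) ⟶ c.pt := descK (fun k => c.ι.app k)

lemma inK_sh (k : ℕ) : inK (fam D) k ≫ sh D = tr D k ≫ inK (fam D) (k + 1) := inK_descK _ k

lemma inK_pr (k : ℕ) : inK (fam D) k ≫ pr D c = c.ι.app k := inK_descK _ k

lemma one_sub_sh_pr : (𝟙 _ - sh D) ≫ pr D c = 0 := by
  apply cK_hom_ext
  intro k
  rw [Preadditive.sub_comp, Preadditive.comp_sub, Category.id_comp, ← Category.assoc, inK_sh,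
    Category.assoc, inK_pr, inK_pr, comp_zero, sub_eq_zero]
  exact (c.w (homOfLE (Nat.le_add_right k 1))).symm

include hc in
/-- the projection is a cokernel of `1 - shift` -/
theorem exists_desc_pr {Z : Cx R} (g : cK (fam D) ⟶ Z) (hg : (𝟙 _ - sh D) ≫ g = 0) :
    ∃ m : c.pt ⟶ Z, pr D c ≫ m = g := by
  have hk : ∀ k, tr D k ≫ inK (fam D) (k + 1) ≫ g = inK (fam D) k ≫ g := by
    intro k
    have := congrArg (fun t => inK (fam D) k ≫ t) hg
    simp only [Preadditive.sub_comp, Preadditive.comp_sub, Category.id_comp, comp_zero] at this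
    rw [← Category.assoc, inK_sh, Category.assoc, sub_eq_zero] at this
    exact this.symm
  let s : Cocone D :=
    { pt := Z
      ι := NatTrans.ofSequence (fun k => inK (fam D) k ≫ g) (fun k => by
        exact (hk k).trans (Category.comp_id _).symm) }
  refine ⟨hc.desc s, ?_⟩
  apply cK_hom_ext
  intro k
  rw [← Category.assoc, inK_pr]
  exact hc.fac s k

include hc in
theorem pr_hom_ext {Z : Cx R} (m m' : c.pt ⟶ Z) (h : pr D c ≫ m = pr D c ≫ m') : m = m' := by
  apply hc.hom_ext
  intro k
  have := congrArg (fun t => inK (fam D) k ≫ t) h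
  simp only [← Category.assoc, inK_pr] at this
  exact this

/-- the short complex `⊕ → ⊕ → colim` -/
noncomputable def seqSC : ShortComplex (Cx R) :=
  ShortComplex.mk (𝟙 _ - sh D) (pr D c) (one_sub_sh_pr D c)

include hc in
theorem seqSC_exact_epi : (seqSC D c).Exact ∧ Epi (seqSC D c).g := by
  have hcok : IsColimit (CokernelCofork.ofπ (pr D c) (one_sub_sh_pr D c)) :=
    CokernelCofork.IsColimit.ofπ _ _
      (fun g hg => (exists_desc_pr D c hc g hg).choose)
      (fun g hg => (exists_desc_pr D c hc g hg).choose_spec)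
      (fun g hg m hm => pr_hom_ext D c hc _ _
        (hm.trans (exists_desc_pr D c hc g hg).choose_spec.symm))
  constructor
  · exact ShortComplex.exact_of_g_is_cokernel _ hcok
  · exact epi_of_isColimit_cofork hcok

end Seq

section Inj

open DirectSum

variable {M : ℕ → Type u} [∀ k, AddCommGroup (M k)] [∀ k, Module R (M k)]
  (t : ∀ k, M k →ₗ[R] M (k + 1))

/-- the shift on the direct sum -/
noncomputable def shL : (⨁ k, M k) →ₗ[R] (⨁ k, M k) :=
  DirectSum.toModule R ℕ _ (fun k => (DirectSum.lof R ℕ M (k + 1)).comp (t k))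

lemma shL_lof (k : ℕ) (m : M k) : shL t (DirectSum.lof R ℕ M k m) =
    DirectSum.lof R ℕ M (k + 1) (t k m) := by
  unfold shL
  rw [DirectSum.toModule_lof]
  rfl

lemma component_zero_shL :
    (DirectSum.component R ℕ M 0).comp (shL t) = 0 := by
  refine DirectSum.linearMap_ext R (fun k => ?_)
  ext m
  simp only [LinearMap.comp_apply, LinearMap.zero_apply]
  rw [shL_lof, DirectSum.component.of]
  rw [dif_neg (Nat.succ_ne_zero k)]

lemma component_succ_shL (N : ℕ) :
    (DirectSum.component R ℕ M (N + 1)).comp (shL t) =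
      (t N).comp (DirectSum.component R ℕ M N) := by
  refine DirectSum.linearMap_ext R (fun k => ?_)
  ext m
  simp only [LinearMap.comp_apply]
  rw [shL_lof]
  by_cases h : k = N
  · subst h
    rw [DirectSum.component.lof_self, DirectSum.component.lof_self]
  · rw [DirectSum.component.of, DirectSum.component.of, dif_neg (fun h' => h (Nat.succ_injective h')),
      dif_neg h, map_zero]

theorem one_sub_shL_injective :
    Function.Injective ((LinearMap.id : (⨁ k, M k) →ₗ[R] (⨁ k, M k)) - shL t) := by
  rw [← LinearMap.ker_eq_bot, LinearMap.ker_eq_bot']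
  intro x hx
  have hx' : x = shL t x := by
    have : x - shL t x = 0 := hx
    exact sub_eq_zero.1 this
  have key : ∀ N, DirectSum.component R ℕ M N x = 0 := by
    intro N
    induction N with
    | zero =>
      rw [hx']
      exact LinearMap.congr_fun (component_zero_shL t) x
    | succ N ih =>
      rw [hx']
      have := LinearMap.congr_fun (component_succ_shL t N) x
      simp only [LinearMap.comp_apply] at this
      rw [this, ih, map_zero]
  apply DFinsupp.ext
  intro N
  exact key N

end Inj

section Mono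

variable (D : ℕ ⥤ Cx R) (c : Cocone D) (hc : IsColimit c)

/-- the transition maps in degree `n`, as linear maps -/
noncomputable abbrev trL (n : ℤ) (k : ℕ) : (D.obj k).X n →ₗ[R] (D.obj (k + 1)).X n :=
  ((tr D k).f n).hom

lemma one_sub_sh_f_comp (n : ℤ) :
    (𝟙 _ - sh D).f n ≫ (ModuleCat.coprodIsoDirectSum (fun k => (D.obj k).X n)).hom =
      (ModuleCat.coprodIsoDirectSum (fun k => (D.obj k).X n)).hom ≫
        ModuleCat.ofHom ((LinearMap.id : (DirectSum ℕ (fun k => (D.obj k).X n)) →ₗ[R] _) -
          shL (trL D n)) := by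
  apply Limits.Sigma.hom_ext
  intro k
  have h1 : Limits.Sigma.ι (fun k => (D.obj k).X n) k ≫ (sh D).f n =
      (tr D k).f n ≫ Limits.Sigma.ι (fun k => (D.obj k).X n) (k + 1) := by
    have := congrArg (fun t => t.f n) (inK_sh D k)
    exact this
  rw [HomologicalComplex.sub_f_apply, HomologicalComplex.id_f, Preadditive.sub_comp,
    Preadditive.comp_sub, Category.id_comp, ← Category.assoc _ ((sh D).f n), h1,
    Category.assoc, ModuleCat.ι_coprodIsoDirectSum_hom, ModuleCat.ι_coprodIsoDirectSum_hom,
    ← Category.assoc, ModuleCat.ι_coprodIsoDirectSum_hom]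
  ext m
  simp only [ModuleCat.hom_comp, ModuleCat.hom_sub, ModuleCat.hom_ofHom, LinearMap.comp_apply,
    LinearMap.sub_apply, LinearMap.id_apply]
  rw [shL_lof]

instance mono_one_sub_sh : Mono (𝟙 _ - sh D : cK (fam D) ⟶ cK (fam D)) := by
  apply HomologicalComplex.mono_of_mono_f
  intro n
  have hinj : Mono (ModuleCat.ofHom ((LinearMap.id :
      (DirectSum ℕ (fun k => (D.obj k).X n)) →ₗ[R] _) - shL (trL D n))) := by
    rw [ModuleCat.mono_iff_injective]
    exact one_sub_shL_injective (trL D n)
  have h : (𝟙 _ - sh D).f n = (ModuleCat.coprodIsoDirectSum (fun k => (D.obj k).X n)).hom ≫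
      ModuleCat.ofHom ((LinearMap.id : (DirectSum ℕ (fun k => (D.obj k).X n)) →ₗ[R] _) -
          shL (trL D n)) ≫ (ModuleCat.coprodIsoDirectSum (fun k => (D.obj k).X n)).inv := by
    rw [← Category.assoc, ← one_sub_sh_f_comp, Category.assoc, Iso.hom_inv_id, Category.comp_id]
  rw [h]
  infer_instance

include hc in
theorem seqSC_shortExact : (seqSC D c).ShortExact := by
  obtain ⟨h1, h2⟩ := seqSC_exact_epi D c hc
  haveI : Mono (seqSC D c).f := mono_one_sub_sh D
  haveI : Epi (seqSC D c).g := h2
  exact ShortComplex.ShortExact.mk h1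

end Mono

section Locus

open Pretriangulated DerivedCategory

variable {𝒟 : Type*} [Category 𝒟] [Preadditive 𝒟] {F₁ F₂ : DerivedCategory (ModuleCat.{u} R) ⥤ 𝒟}
  (τ : F₁ ⟶ F₂)

instance : HasExactColimitsOfShape (Discrete ℕ) (ModuleCat.{u} R) := by
  have ab4 : AB4OfSize.{u} (ModuleCat.{u} R) := AB4.of_AB5 _
  have ab4' : AB4OfSize.{0} (ModuleCat.{u} R) := inferInstance
  infer_instance

/-- the isomorphism locus is closed under sequential colimits of complexes -/
theorem isoLocus_colimit (h₁ : CoyExact F₁) (h₂ : CoyExact F₂) (c₁ : PresCoprod.{0} F₁)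
    (c₂ : PresCoprod.{0} F₂) (D : ℕ ⥤ Cx R) (c : Cocone D) (hc : IsColimit c)
    (hD : ∀ k, isoLocus τ (Q.obj (D.obj k))) : isoLocus τ (Q.obj c.pt) := by
  haveI := isoLocus_isTriangulated τ h₁ h₂
  have hS := seqSC_shortExact D c hc
  have hT := triangleOfSES_distinguished hS
  have hco : isoLocus τ (Q.obj (cK (fam D))) :=
    isoLocus_of_isColimit τ c₁ c₂ (fun k => Q.obj (D.obj k)) _ _ (isColimitCofan (fam D)) hD
  exact (isoLocus τ).ext_of_isTriangulatedClosed₃ _ hT hco hco

end Locus

end Helper5.Gen
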