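import Mathlib
import Groth.Prelude.Def_Wider
import Groth.Agent.Lib.Helper5.KProj.Colim
import Groth.Agent.Lib.Helper5.Gen.Hocolim

/-!
# The derived category of a ring is generated by the ring

A natural transformation between weakly exact functors preserving coproducts, defined on
`D(R)`, is an isomorphism as soon as it is one on the shifts of `R`.
-/

set_option autoImplicit false
set_option linter.unusedSectionVars false
universe u
open CategoryTheory CategoryTheory.Limits
attribute [local instance] HasDerivedCategory.standard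

namespace Helper5.Gen

open Groth.Agent.Helper3.DCoprod Groth.Agent.Lib.Helper5.KProj DerivedCategory Pretriangulated

variable {R : Type u} [CommRing R]

section Cells

variable {X P : Cx R} (f : P ⟶ X)

/-- the index set of all cells -/
abbrev CellIdx : Type u := Σ n : ℤ, Cell f n

/-- the family of shifted copies of `R` -/
noncomputable abbrev cellFam : CellIdx f → Cx R := fun j =>
  (HomologicalComplex.single (ModuleCat.{u} R) (ComplexShape.up ℤ) j.1).obj (ModuleCat.of R R)

/-- the map picking out a generator -/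
noncomputable def genMap (j : CellIdx f) : ModuleCat.of R R ⟶ (cellCx f).X j.1 :=
  ModuleCat.ofHom (LinearMap.toSpanSingleton R (Cell f j.1 →₀ R) (gen f j.2))

/-- the comparison from the coproduct of shifted copies of `R` -/
noncomputable def cellCmp : cK (cellFam f) ⟶ cellCx f :=
  descK (fun j => HomologicalComplex.mkHomFromSingle (genMap f j) (fun k _ => by
    rw [cellCx_d, comp_zero]))

/-- the unit element of a summand -/
noncomputable def cellUnit (m : ℤ) (s : Cell f m) :
    ((cK (cellFam f)).X m : ModuleCat.{u} R) :=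
  (Limits.Sigma.ι (fun j : CellIdx f => (cellFam f j).X m) ⟨m, s⟩).hom
    ((HomologicalComplex.singleObjXSelf (ComplexShape.up ℤ) m (ModuleCat.of R R)).inv.hom (1 : R))

/-- the inverse of the comparison in degree `m` -/
noncomputable def cellInv (m : ℤ) : (cellCx f).X m ⟶ (cK (cellFam f)).X m :=
  ModuleCat.ofHom (Finsupp.linearCombination R (fun s : Cell f m => cellUnit f m s))

lemma cellCmp_unit (m : ℤ) (s : Cell f m) :
    ((cellCmp f).f m).hom (cellUnit f m s) = gen f s := by
  have h1 : Limits.Sigma.ι (fun j : CellIdx f => (cellFam f j).X m) ⟨m, s⟩ ≫ (cellCmp f).f m =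
      (HomologicalComplex.singleObjXSelf (ComplexShape.up ℤ) m (ModuleCat.of R R)).hom ≫
        genMap f ⟨m, s⟩ := by
    have := congrArg (fun t => t.f m) (inK_descK (K := cellFam f) (fun j =>
      HomologicalComplex.mkHomFromSingle (genMap f j) (fun k _ => by
        rw [cellCx_d, comp_zero])) ⟨m, s⟩)
    refine this.trans ?_
    exact HomologicalComplex.mkHomFromSingle_f _ _
  have h2 := congrArg (fun t => t.hom
    ((HomologicalComplex.singleObjXSelf (ComplexShape.up ℤ) m (ModuleCat.of R R)).inv.hom
      (1 : R))) h1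
  simp only [ModuleCat.hom_comp, LinearMap.comp_apply] at h2
  refine h2.trans ?_
  have h3 : (HomologicalComplex.singleObjXSelf (ComplexShape.up ℤ) m (ModuleCat.of R R)).hom.hom
      ((HomologicalComplex.singleObjXSelf (ComplexShape.up ℤ) m (ModuleCat.of R R)).inv.hom
        (1 : R)) = (1 : R) := by
    have := congrArg (fun t => t.hom (1 : R))
      (HomologicalComplex.singleObjXSelf (ComplexShape.up ℤ) m (ModuleCat.of R R)).inv_hom_id
    exact this
  rw [h3]
  show LinearMap.toSpanSingleton R (Cell f m →₀ R) (gen f s) 1 = gen f s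
  rw [LinearMap.toSpanSingleton_apply, one_smul]

lemma cellInv_cellCmp (m : ℤ) : cellInv f m ≫ (cellCmp f).f m = 𝟙 _ := by
  apply ModuleCat.hom_ext
  apply Finsupp.lhom_ext'
  intro s
  apply LinearMap.ext_ring
  show ((cellCmp f).f m).hom (Finsupp.linearCombination R (fun s : Cell f m => cellUnit f m s)
    (Finsupp.single s 1)) = Finsupp.single s 1
  rw [Finsupp.linearCombination_single, one_smul, cellCmp_unit]
  rfl

lemma cellCmp_cellInv (m : ℤ) : (cellCmp f).f m ≫ cellInv f m = 𝟙 _ := by
  apply Limits.Sigma.hom_ext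
  rintro ⟨n, s⟩
  by_cases hnm : m = n
  · subst hnm
    rw [← cancel_epi (HomologicalComplex.singleObjXSelf (ComplexShape.up ℤ) m
      (ModuleCat.of R R)).inv]
    apply ModuleCat.hom_ext
    apply LinearMap.ext_ring
    show (cellInv f m).hom (((cellCmp f).f m).hom (cellUnit f m s)) =
      (𝟙 ((cK (cellFam f)).X m) : _ ⟶ _).hom (cellUnit f m s)
    rw [cellCmp_unit]
    show Finsupp.linearCombination R (fun s : Cell f m => cellUnit f m s) (Finsupp.single s 1) = _
    rw [Finsupp.linearCombination_single, one_smul]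
    rfl
  · exact (HomologicalComplex.isZero_single_obj_X (ComplexShape.up ℤ) n (ModuleCat.of R R) m
      hnm).eq_of_src _ _

instance isIso_cellCmp : IsIso (cellCmp f) := by
  haveI : ∀ m, IsIso ((cellCmp f).f m) := fun m =>
    ⟨cellInv f m, cellCmp_cellInv f m, cellInv_cellCmp f m⟩
  exact HomologicalComplex.Hom.isIso_of_components _

end Cells

section Main

variable {𝒟 : Type*} [Category 𝒟] [Preadditive 𝒟] {F₁ F₂ : Dual.D R ⥤ 𝒟} (τ : F₁ ⟶ F₂)
  (h₁ : CoyExact F₁) (h₂ : CoyExact F₂) (c₁ : PresCoprod.{u} F₁) (c₂ : PresCoprod.{u} F₂)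
  (c₁' : PresCoprod.{0} F₁) (c₂' : PresCoprod.{0} F₂) (h0 : isoLocus τ (Dual.inD R R))

include h0 in
theorem isoLocus_single (n : ℤ) : isoLocus τ (Q.obj
    ((HomologicalComplex.single (ModuleCat.{u} R) (ComplexShape.up ℤ) n).obj
      (ModuleCat.of R R))) := by
  have e : (Dual.inD R R)⟦(-n : ℤ)⟧ ≅ (DerivedCategory.singleFunctor (ModuleCat.{u} R) n).obj
      (ModuleCat.of R R) :=
    ((DerivedCategory.singleFunctors (ModuleCat.{u} R)).shiftIso (-n) n 0 (by omega)).app
      (ModuleCat.of R R)
  exact (isoLocus τ).prop_of_iso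
    (e ≪≫ (DerivedCategory.singleFunctorIsoCompQ (ModuleCat.{u} R) n).app _)
    (isoLocus_shift τ _ h0 (-n))

include h0 c₁ c₂ in
theorem isoLocus_cellCx {X P : Cx R} (f : P ⟶ X) : isoLocus τ (Q.obj (cellCx f)) := by
  have h : isoLocus τ (Q.obj (cK (cellFam f))) :=
    isoLocus_of_isColimit τ c₁ c₂ (fun j => Q.obj (cellFam f j)) _ _ (isColimitCofan (cellFam f))
      (fun j => isoLocus_single τ h0 j.1)
  exact (isoLocus τ).prop_of_iso (Q.mapIso (asIso (cellCmp f))) h

include h0 c₁ c₂ h₁ h₂ in
theorem isoLocus_stage (X : Cx R) : ∀ k : ℕ, isoLocus τ (Q.obj (stage X k).P) := by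
  haveI := isoLocus_isTriangulated τ h₁ h₂
  intro k
  induction k with
  | zero =>
    have hz : IsZero (Q.obj (stage X 0).P) := Q.map_isZero (isZero_zero _)
    exact (isoLocus τ).prop_of_isZero hz
  | succ k ih =>
    let φ := cellMap (stage X k).f
    have hT : Q.mapTriangle.obj (CochainComplex.mappingCone.triangle φ) ∈
        distTriang (DerivedCategory (ModuleCat.{u} R)) := by
      rw [DerivedCategory.mem_distTriang_iff]
      exact ⟨_, _, φ, ⟨Iso.refl _⟩⟩
    exact (isoLocus τ).ext_of_isTriangulatedClosed₃ _ hT (isoLocus_cellCx τ c₁ c₂ h0 _) ih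

include h0 c₁ c₂ h₁ h₂ c₁' c₂' in
/-- **generation**: a natural transformation between weakly exact functors preserving
coproducts on `D(R)` is an isomorphism if it is one on all shifts of `R` -/
theorem isIso_app_of_unit (K : Dual.D R) : IsIso (τ.app K) := by
  let X := Q.objPreimage K
  have h : isoLocus τ (Q.obj (res X)) :=
    isoLocus_colimit τ h₁ h₂ c₁' c₂' (stageD X) (colimit.cocone (stageD X)) (colimit.isColimit _)
      (fun k => isoLocus_stage τ h₁ h₂ c₁ c₂ h0 X k)
  haveI : IsIso (Q.map (resMap X)) := by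
    rw [DerivedCategory.isIso_Q_map_iff_quasiIso]
    infer_instance
  exact isoLocus_app τ _ ((isoLocus τ).prop_of_iso
    (asIso (Q.map (resMap X)) ≪≫ Q.objObjPreimageIso K) h)

end Main

end Helper5.Gen
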