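import Mathlib
import Groth.Prelude.Def_Wider
import Groth.Prelude.Def_DDual2
import Groth.Agent.Lib.Helper3.CptRing
import Groth.Agent.Lib.Helper3.CptMod
import Groth.Agent.Lib.Helper3.CptTri
import Groth.Agent.Lib.Helper5.DRing.Thick
import Groth.Agent.Lib.Helper5.Shriek.BCGen
import Groth.Agent.Lib.Helper5.Gen.GenMain

/-!
# Compactness of perfect objects and right adjoints preserving coproducts
-/

set_option autoImplicit false
set_option linter.unusedSectionVars false
universe w w' u
open CategoryTheory CategoryTheory.Limits Pretriangulated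
attribute [local instance] HasDerivedCategory.standard

namespace Helper5.Gen

open Groth.Agent.Helper3.CptGen Groth.Agent.Helper3.CptTri DerivedCategory

section Down

variable {C : Type*} [Category C] {D : Type*} [Category D]

/-- reindexing a coproduct along `ULift` -/
def isColimitUp {J : Type w} {X : J → C} {P : C} {g : ∀ j, X j ⟶ P}
    (hc : IsColimit (Cofan.mk P g)) :
    IsColimit (Cofan.mk P (fun j : ULift.{w'} J => g j.down)) :=
  Cofan.IsColimit.mk _
    (fun t => Cofan.IsColimit.desc hc (fun j => t.inj ⟨j⟩))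
    (fun t j => Cofan.IsColimit.fac hc (fun j => t.inj ⟨j⟩) j.down)
    (fun t m hm => Cofan.IsColimit.hom_ext hc _ _ (fun j => by
      rw [Cofan.IsColimit.fac hc (fun j => t.inj ⟨j⟩) j]
      exact hm ⟨j⟩))

/-- reindexing a coproduct along `ULift`, downwards -/
def isColimitDown {J : Type w} {X : J → C} {P : C} {g : ∀ j, X j ⟶ P}
    (hc : IsColimit (Cofan.mk P (fun j : ULift.{w'} J => g j.down))) :
    IsColimit (Cofan.mk P g) :=
  Cofan.IsColimit.mk _
    (fun t => Cofan.IsColimit.desc hc (fun j => t.inj j.down))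
    (fun t j => Cofan.IsColimit.fac hc (fun j => t.inj j.down) ⟨j⟩)
    (fun t m hm => Cofan.IsColimit.hom_ext hc _ _ (fun j => by
      rw [Cofan.IsColimit.fac hc (fun j => t.inj j.down) j]
      exact hm j.down))

theorem PresCoprod.down {F : C ⥤ D} (h : PresCoprod.{max w w'} F) : PresCoprod.{w} F := by
  intro J X P g hc
  obtain ⟨h1⟩ := h (ULift.{w'} J) (fun j => X j.down) P (fun j => g j.down) (isColimitUp hc)
  exact ⟨isColimitDown (g := fun j => F.map (g j)) h1⟩

end Down

section Perfect

variable {R : Type u} [CommRing R]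

theorem weakCpt_unit : WeakCpt.{u} (Dual.inD R R) :=
  Groth.Agent.Helper3.CptRing.weakCpt_single (A := ModuleCat.{u} R) (ModuleCat.of R R)

/-- perfect objects are compact -/
theorem weakCpt_of_isPerfect (K : Dual.D R) (hK : DRing.IsPerfect R K) : WeakCpt.{u} K := by
  let P : ObjectProperty (Dual.D R) := fun K => WeakCpt.{u} K
  haveI : P.IsClosedUnderIsomorphisms := ⟨fun e h => weakCpt_of_iso e.symm h⟩
  exact Groth.Agent.Helper5.DRingCone.prop_perfect P weakCpt_unit
    (fun K n h => weakCpt_shift h n) (fun T hT h1 h3 => weakCpt_ext T hT h1 h3)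
    (fun X Y _ h => weakCpt_of_retract biprod.inl biprod.fst (by simp) h) K hK

end Perfect

section RightAdj

variable {R A : Type u} [CommRing R] [CommRing A] {L : Dual.D A ⥤ Dual.D R}
  {G : Dual.D R ⥤ Dual.D A} (adj : L ⊣ G) [L.Additive]

instance (J : Type u) : HasExactColimitsOfShape (Discrete J) (ModuleCat.{u} A) := by
  have ab4 : AB4OfSize.{u} (ModuleCat.{u} A) := AB4.of_AB5 _
  infer_instance

include adj in
/-- a right adjoint of a functor sending the shifts of the unit to compact objects preserves
coproducts -/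
theorem presCoprod_rightAdjoint (hL : ∀ n : ℤ, WeakCpt.{u} (L.obj ((Dual.inD A A)⟦n⟧))) :
    PresCoprod.{u} G := by
  classical
  intro J X P g hc
  haveI : HasCoproductsOfShape J (Dual.D A) :=
    Groth.Agent.Helper3.DCoprod.hasCoproductsOfShape
  let Y : J → Dual.D A := fun j => G.obj (X j)
  let κ : ∐ Y ⟶ G.obj P := Sigma.desc (fun j => G.map (g j))
  have hκ : ∀ j, Sigma.ι Y j ≫ κ = G.map (g j) := fun j => Sigma.ι_desc _ j
  have hS : IsColimit (Cofan.mk (∐ Y) (Sigma.ι Y)) := coproductIsCoproduct Y
  have hA : ∀ n : ℤ, WeakCpt.{u} ((Dual.inD A A)⟦n⟧) := fun n => weakCpt_shift weakCpt_unit n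
  haveI : IsIso κ := by
    apply Helper5.Shriek.isIso_of_unit_shift_bijective
    intro n
    constructor
    · -- injectivity
      intro a a' haa
      rw [← sub_eq_zero]
      have h0 : (a - a') ≫ κ = 0 := by
        rw [Preadditive.sub_comp]
        exact sub_eq_zero.2 haa
      generalize a - a' = b at h0
      obtain ⟨S, x, hx⟩ := hA n J Y (∐ Y) (Sigma.ι Y) hS b
      have h1 : ∑ j ∈ S, (adj.homAddEquiv _ _).symm (x j) ≫ g j = 0 := by
        have h2 : (adj.homAddEquiv _ _).symm (b ≫ κ) = 0 := by rw [h0, map_zero]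
        rw [hx, Preadditive.sum_comp, map_sum] at h2
        rw [← h2]
        apply Finset.sum_congr rfl
        intro j _
        rw [Category.assoc, hκ]
        exact (adj.homEquiv_naturality_right_symm (x j) (g j)).symm
      have h3 : ∀ k ∈ S, x k = 0 := by
        intro k hk
        have h4 := congrArg (fun t => t ≫ proj g hc k) h1
        simp only [Preadditive.sum_comp, zero_comp, Category.assoc] at h4
        rw [Finset.sum_eq_single k] at h4
        · rw [inj_proj_self, Category.comp_id] at h4
          exact (adj.homAddEquiv _ _).symm.injective (h4.trans (map_zero _).symm)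
        · intro j _ hj
          rw [inj_proj_ne g hc hj, comp_zero]
        · intro h
          exact absurd hk h
      rw [hx]
      apply Finset.sum_eq_zero
      intro k hk
      rw [h3 k hk, zero_comp]
    · -- surjectivity
      intro b
      obtain ⟨S, y, hy⟩ := hL n J X P g hc ((adj.homEquiv _ _).symm b)
      refine ⟨∑ j ∈ S, adj.homEquiv _ _ (y j) ≫ Sigma.ι Y j, ?_⟩
      show (∑ j ∈ S, adj.homEquiv _ _ (y j) ≫ Sigma.ι Y j) ≫ κ = b
      have h1 : b = adj.homAddEquiv _ _ (∑ j ∈ S, y j ≫ g j) := by
        rw [← hy]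
        exact ((adj.homEquiv _ _).apply_symm_apply b).symm
      rw [h1, map_sum, Preadditive.sum_comp]
      apply Finset.sum_congr rfl
      intro j _
      rw [Category.assoc, hκ]
      exact (adj.homEquiv_naturality_right (y j) (g j)).symm
  refine ⟨IsColimit.ofIsoColimit hS (Cofan.ext (asIso κ) ?_)⟩
  intro j
  exact hκ j

end RightAdj

end Helper5.Gen
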