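import Mathlib
import Groth.Prelude.Def_Wider
import Groth.Prelude.Def_DDual2
import Groth.Prelude.Def_DTen4
import Groth.Agent.Lib.Helper5.KProj.Tri
import Groth.Agent.Lib.Helper5.DTenLib.Basic
import Groth.Agent.Lib.Helper5.DTenLib.TensorExact
import Groth.Agent.Lib.Helper5.KFlat.Qis
import Groth.Agent.Lib.Helper5.Gen.CoyEx

/-!
# The chain level mixed tensor product `F ↦ (F ⊗_R A) ⊗_A W` and functors modelled on it
-/

set_option autoImplicit false
set_option linter.unusedSectionVars false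
set_option linter.unusedVariables false
universe u
open CategoryTheory CategoryTheory.Limits MonoidalCategory Pretriangulated
attribute [local instance] HasDerivedCategory.standard

namespace Helper5.Gen

open DerivedCategory DTen Groth.Agent.Lib.Helper5.KProj Groth.Agent.Lib.Helper5.KFlat
  Groth.Agent.Lib.Helper5.DTenLib

variable {R A : Type u} [CommRing R] [CommRing A] (φ : R →+* A)

/-- the chain level functor `F ↦ (F ⊗_R A) ⊗_A W` -/
noncomputable abbrev GW (W : DRing.Cx A) : DRing.Cx R ⥤ DRing.Cx A :=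
  extCx φ ⋙ tensorRight W

/-- the short exact sequence `0 → G F' → G (cone f) → G F[1] → 0` -/
theorem shortExact_GW_cone {F F' : DRing.Cx R} (f : F ⟶ F') (W : DRing.Cx A) :
    ∃ (z : (GW φ W).map (CochainComplex.mappingCone.inr f) ≫ (GW φ W).map (δc f) = 0),
      (ShortComplex.mk _ _ z).ShortExact := by
  refine shortExact_tot₁ (T A) W
    ((CochainComplex.mappingCone.triangleRotateShortComplex f).map (extCx φ)) (fun p q => ?_)
  exact (((CochainComplex.mappingCone.triangleRotateShortComplexSplitting f p).map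
    (ModuleCat.extendScalars.{u, u, u} φ)).map ((T A).flip.obj (W.X q))).shortExact

open CochainComplex in
/-- every distinguished triangle of `D(R)` is, on its first two maps, the image of the rotated
mapping cone sequence of a map of K-projective complexes -/
theorem exists_kproj_cone_of_distTriang (T : Triangle (Dual.D R))
    (hT : T ∈ distTriang (Dual.D R)) :
    ∃ (X Y : DRing.Cx R) (_ : X.IsKProjective) (_ : Y.IsKProjective) (f : X ⟶ Y)
      (e₁ : T.obj₁ ≅ Q.obj Y) (e₂ : T.obj₂ ≅ Q.obj (mappingCone f))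
      (e₃ : T.obj₃ ≅ Q.obj (X⟦(1 : ℤ)⟧)),
      T.mor₁ ≫ e₂.hom = e₁.hom ≫ Q.map (mappingCone.inr f) ∧
      T.mor₂ ≫ e₃.hom = e₂.hom ≫ Q.map (δc f) := by
  have hT' := inv_rot_of_distTriang _ hT
  obtain ⟨X, hX, ⟨eX⟩⟩ := exists_kproj_rep T.invRotate.obj₁
  obtain ⟨Y, hY, ⟨eY⟩⟩ := exists_kproj_rep T.invRotate.obj₂
  haveI := hX
  obtain ⟨f, hf⟩ := exists_Q_map_eq X Y (eX.hom ≫ T.invRotate.mor₁ ≫ eY.inv)
  have hd : Q.mapTriangle.obj (mappingCone.triangle f) ∈ distTriang (Dual.D R) :=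
    (DerivedCategory.mem_distTriang_iff _).2 ⟨_, _, f, ⟨Iso.refl _⟩⟩
  let e' : T.invRotate ≅ Q.mapTriangle.obj (mappingCone.triangle f) :=
    isoTriangleOfIso₁₂ _ _ hT' hd eX.symm eY.symm (by
      change T.invRotate.mor₁ ≫ eY.inv = eX.inv ≫ Q.map f
      rw [hf, Iso.inv_hom_id_assoc])
  let ψ : T ≅ (Q.mapTriangle.obj (mappingCone.triangle f)).rotate :=
    ((triangleRotation (Dual.D R)).counitIso.app T).symm ≪≫ (rotate _).mapIso e'
  refine ⟨X, Y, hX, hY, f, Triangle.π₁.mapIso ψ, Triangle.π₂.mapIso ψ,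
    Triangle.π₃.mapIso ψ ≪≫ ((Q.commShiftIso (1 : ℤ)).app X).symm, ?_, ?_⟩
  · exact ψ.hom.comm₁
  · have := ψ.hom.comm₂
    change T.mor₂ ≫ ψ.hom.hom₃ ≫ (Q.commShiftIso (1 : ℤ)).inv.app X = ψ.hom.hom₂ ≫ Q.map (δc f)
    rw [reassoc_of% this]
    have hm : (Q.mapTriangle.obj (mappingCone.triangle f)).rotate.mor₂ =
        Q.map (δc f) ≫ (Q.commShiftIso (1 : ℤ)).hom.app X := rfl
    congr 1
    exact (Category.assoc _ _ _).trans
      ((congrArg (fun t => Q.map (δc f) ≫ t)
        ((Q.commShiftIso (1 : ℤ)).hom_inv_id_app X)).trans (Category.comp_id _))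

/-- a functor `T : D(R) ⥤ D(A)` is modelled on `F ↦ (F ⊗_R A) ⊗_A W` if it comes with a natural
map `T(QF) ⟶ Q((F ⊗_R A) ⊗_A W)` which is an isomorphism for K-projective `F` -/
structure Model (W : DRing.Cx A) (T : Dual.D R ⥤ Dual.D A) where
  α : Q ⋙ T ⟶ GW φ W ⋙ Q
  isIso : ∀ (F : DRing.Cx R), F.IsKProjective → IsIso (α.app F)

namespace Model

variable {φ} {W : DRing.Cx A} {T : Dual.D R ⥤ Dual.D A} (m : Model φ W T)

/-- the comparison isomorphism on a K-projective complex -/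
noncomputable def iso (F : DRing.Cx R) (hF : F.IsKProjective) :
    T.obj (Q.obj F) ≅ Q.obj ((GW φ W).obj F) :=
  haveI := m.isIso F hF
  asIso (m.α.app F)

lemma iso_hom_naturality {F F' : DRing.Cx R} (hF : F.IsKProjective) (hF' : F'.IsKProjective)
    (f : F ⟶ F') :
    T.map (Q.map f) ≫ (m.iso F' hF').hom = (m.iso F hF).hom ≫ Q.map ((GW φ W).map f) :=
  m.α.naturality f

include m in
/-- a functor modelled on the mixed tensor product is weakly exact -/
theorem coyExact : CoyExact T := by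
  intro Δ hΔ
  obtain ⟨X, Y, hX, hY, f, e₁, e₂, e₃, c₁, c₂⟩ := exists_kproj_cone_of_distTriang Δ hΔ
  obtain ⟨z, hS⟩ := shortExact_GW_cone φ f W
  haveI := hX
  haveI := hY
  have hC : (CochainComplex.mappingCone f).IsKProjective := isKProjective_mappingCone f
  have hX1 : (X⟦(1 : ℤ)⟧).IsKProjective := inferInstance
  refine exactAt_of_iso_distTriang T Δ.mor₁ Δ.mor₂ _
    (DerivedCategory.triangleOfSES_distinguished hS)
    (T.mapIso e₁ ≪≫ m.iso Y hY) (T.mapIso e₂ ≪≫ m.iso _ hC) (T.mapIso e₃ ≪≫ m.iso _ hX1) ?_ ?_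
  · exact calc
      T.map Δ.mor₁ ≫ T.map e₂.hom ≫ (m.iso _ hC).hom
        = T.map (Δ.mor₁ ≫ e₂.hom) ≫ (m.iso _ hC).hom := by rw [T.map_comp, Category.assoc]
      _ = T.map e₁.hom ≫ T.map (Q.map (CochainComplex.mappingCone.inr f)) ≫ (m.iso _ hC).hom := by
          rw [c₁, T.map_comp, Category.assoc]
      _ = (T.map e₁.hom ≫ (m.iso Y hY).hom) ≫
            Q.map ((GW φ W).map (CochainComplex.mappingCone.inr f)) := by
          rw [m.iso_hom_naturality hY hC, Category.assoc]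
  · exact calc
      T.map Δ.mor₂ ≫ T.map e₃.hom ≫ (m.iso _ hX1).hom
        = T.map (Δ.mor₂ ≫ e₃.hom) ≫ (m.iso _ hX1).hom := by rw [T.map_comp, Category.assoc]
      _ = T.map e₂.hom ≫ T.map (Q.map (δc f)) ≫ (m.iso _ hX1).hom := by
          rw [c₂, T.map_comp, Category.assoc]
      _ = (T.map e₂.hom ≫ (m.iso _ hC).hom) ≫ Q.map ((GW φ W).map (δc f)) := by
          rw [m.iso_hom_naturality hC hX1, Category.assoc]

end Model

end Helper5.Gen
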