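import Mathlib
import Groth.Prelude.Def_Wider
import Groth.Prelude.Def_DDual2
import Groth.Prelude.Def_DTen4
import Groth.Agent.Lib.Helper3.DCoprod
import Groth.Agent.Lib.Helper5.Gen.MixCx
import Groth.Agent.Lib.Helper5.Gen.Coprod
import Groth.Agent.Lib.Helper5.Gen.Compact

/-!
# Functors modelled on the mixed tensor product preserve coproducts
-/

set_option autoImplicit false
set_option linter.unusedSectionVars false
set_option linter.unusedVariables false
universe u
open CategoryTheory CategoryTheory.Limits MonoidalCategory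
attribute [local instance] HasDerivedCategory.standard

namespace Helper5.Gen

open DerivedCategory DTen Groth.Agent.Helper3.DCoprod

variable {R A : Type u} [CommRing R] [CommRing A] (φ : R →+* A)

section Chain

variable {J : Type u} (F : J → DRing.Cx R) (W : DRing.Cx A)

/-- a coproduct of K-projective complexes is K-projective -/
theorem isKProjective_cK (hF : ∀ j, (F j).IsKProjective) : (cK F).IsKProjective :=
  ⟨fun f hL => ⟨homotopyK f (fun j =>
    haveI := hF j
    CochainComplex.IsKProjective.homotopyZero (inK F j ≫ f) hL)⟩⟩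

/-- the module level functor `M ↦ (A ⊗_R M) ⊗_A N` -/
noncomputable abbrev Hq (N : ModuleCat.{u} A) : ModuleCat.{u} R ⥤ ModuleCat.{u} A :=
  ModuleCat.extendScalars.{u, u, u} φ ⋙ tensorRight N

/-- the inclusion of a summand of `G_W X` -/
noncomputable def ιG (X : DRing.Cx R) (p q n : ℤ) (h : p + q = n) :
    (Hq φ (W.X q)).obj (X.X p) ⟶ ((GW φ W).obj X).X n :=
  HomologicalComplex.ιTensorObj ((extCx φ).obj X) W p q n h

/-- maps out of a degree of `G_W X` -/
noncomputable def descG (X : DRing.Cx R) (n : ℤ) {M : ModuleCat.{u} A}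
    (f : ∀ (p q : ℤ) (h : p + q = n), (Hq φ (W.X q)).obj (X.X p) ⟶ M) :
    ((GW φ W).obj X).X n ⟶ M :=
  HomologicalComplex.mapBifunctorDesc (K₁ := (extCx φ).obj X) (K₂ := W)
    (F := curriedTensor (ModuleCat.{u} A)) (c := ComplexShape.up ℤ) f

@[reassoc]
lemma ιG_descG (X : DRing.Cx R) (n : ℤ) {M : ModuleCat.{u} A}
    (f : ∀ (p q : ℤ) (h : p + q = n), (Hq φ (W.X q)).obj (X.X p) ⟶ M) (p q : ℤ) (h : p + q = n) :
    ιG φ W X p q n h ≫ descG φ W X n f = f p q h :=
  HomologicalComplex.ι_mapBifunctorDesc (K₁ := (extCx φ).obj X) (K₂ := W)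
    (F := curriedTensor (ModuleCat.{u} A)) (c := ComplexShape.up ℤ) f p q h

lemma hom_ext_G (X : DRing.Cx R) (n : ℤ) {M : ModuleCat.{u} A}
    {f g : ((GW φ W).obj X).X n ⟶ M}
    (h : ∀ (p q : ℤ) (h : p + q = n), ιG φ W X p q n h ≫ f = ιG φ W X p q n h ≫ g) : f = g :=
  HomologicalComplex.mapBifunctor.hom_ext (K₁ := (extCx φ).obj X) (K₂ := W)
    (F := curriedTensor (ModuleCat.{u} A)) (c := ComplexShape.up ℤ) h

lemma ιG_map {X Y : DRing.Cx R} (f : X ⟶ Y) (p q n : ℤ) (h : p + q = n) :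
    ιG φ W X p q n h ≫ ((GW φ W).map f).f n = (Hq φ (W.X q)).map (f.f p) ≫ ιG φ W Y p q n h := by
  have := HomologicalComplex.ι_mapBifunctorMap ((extCx φ).map f) (𝟙 W)
    (curriedTensor (ModuleCat.{u} A)) (ComplexShape.up ℤ) p q n h
  rw [HomologicalComplex.id_f, CategoryTheory.Functor.map_id, Category.id_comp] at this
  exact this

/-- the comparison `∐ G(F_j) ⟶ G(∐ F_j)` -/
noncomputable def κ : cK (fun j => (GW φ W).obj (F j)) ⟶ (GW φ W).obj (cK F) :=
  descK (fun j => (GW φ W).map (inK F j))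

lemma inK_κ (j : J) : inK (fun j => (GW φ W).obj (F j)) j ≫ κ φ F W = (GW φ W).map (inK F j) :=
  inK_descK _ j

/-- the inverse of the comparison in a fixed degree -/
noncomputable def κinv (n : ℤ) :
    ((GW φ W).obj (cK F)).X n ⟶ (cK (fun j => (GW φ W).obj (F j))).X n :=
  descG φ W (cK F) n (fun p q h =>
    (PreservesCoproduct.iso (Hq φ (W.X q)) (fun j => (F j).X p)).hom ≫
      Limits.Sigma.map (fun j => ιG φ W (F j) p q n h))

lemma κ_f (n : ℤ) : (κ φ F W).f n =
    Limits.Sigma.desc (fun j => ((GW φ W).map (inK F j)).f n) := rfl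

lemma map_ι_iso (N : ModuleCat.{u} A) (p : ℤ) (j : J) :
    (Hq φ N).map (Limits.Sigma.ι (fun j => (F j).X p) j) ≫
      (PreservesCoproduct.iso (Hq φ N) (fun j => (F j).X p)).hom =
      Limits.Sigma.ι (fun j => (Hq φ N).obj ((F j).X p)) j := by
  rw [← ι_comp_sigmaComparison, ← PreservesCoproduct.inv_hom, Category.assoc, Iso.inv_hom_id,
    Category.comp_id]

lemma κ_κinv (n : ℤ) : (κ φ F W).f n ≫ κinv φ F W n = 𝟙 _ := by
  rw [κ_f]
  apply Limits.Sigma.hom_ext
  intro j
  rw [Limits.Sigma.ι_desc_assoc]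
  refine (hom_ext_G φ W (F j) n (fun p q h => ?_)).trans (Category.comp_id _).symm
  have h1 := ιG_map φ W (inK F j) p q n h
  rw [← Category.assoc, h1, Category.assoc]
  dsimp only [κinv]
  rw [ιG_descG]
  have h3 := map_ι_iso φ F (W.X q) p j
  rw [← Category.assoc]
  erw [h3]
  rw [Limits.Sigma.ι_map]

lemma κinv_κ (n : ℤ) : κinv φ F W n ≫ (κ φ F W).f n = 𝟙 _ := by
  refine (hom_ext_G φ W (cK F) n (fun p q h => ?_)).trans rfl
  dsimp only [κinv]
  rw [ιG_descG_assoc, Category.comp_id, κ_f, Category.assoc,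
    ← cancel_epi (PreservesCoproduct.iso (Hq φ (W.X q)) (fun j => (F j).X p)).inv,
    Iso.inv_hom_id_assoc]
  apply Limits.Sigma.hom_ext
  intro j
  rw [Limits.Sigma.ι_map_assoc, Limits.Sigma.ι_desc, PreservesCoproduct.inv_hom,
    ι_comp_sigmaComparison_assoc]
  exact ιG_map φ W (inK F j) p q n h

instance isIso_κ : IsIso (κ φ F W) := by
  haveI : ∀ n, IsIso ((κ φ F W).f n) := fun n =>
    ⟨⟨κinv φ F W n, κ_κinv φ F W n, κinv_κ φ F W n⟩⟩
  exact HomologicalComplex.Hom.isIso_of_components _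

end Chain

section Transport

variable {C : Type*} [Category C] {J : Type*}

/-- transport of a colimit cofan along isomorphisms -/
noncomputable def isColimitCofanOfIso {X X' : J → C} {P P' : C} {g : ∀ j, X j ⟶ P}
    {g' : ∀ j, X' j ⟶ P'} (e : ∀ j, X' j ≅ X j) (eP : P' ≅ P)
    (h : ∀ j, g' j ≫ eP.hom = (e j).hom ≫ g j) (hc : IsColimit (Cofan.mk P' g')) :
    IsColimit (Cofan.mk P g) :=
  Cofan.IsColimit.mk _
    (fun s => eP.inv ≫ Cofan.IsColimit.desc hc (fun j => (e j).hom ≫ s.inj j))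
    (fun s j => by
      have h1 : g j ≫ eP.inv = (e j).inv ≫ g' j := by
        rw [← cancel_mono eP.hom, Category.assoc, Iso.inv_hom_id, Category.comp_id,
          Category.assoc, h, Iso.inv_hom_id_assoc]
      have h2 : g' j ≫ Cofan.IsColimit.desc hc (fun j => (e j).hom ≫ s.inj j) =
          (e j).hom ≫ s.inj j := Cofan.IsColimit.fac hc _ j
      change g j ≫ eP.inv ≫ _ = _
      rw [reassoc_of% h1, h2, Iso.inv_hom_id_assoc])
    (fun s m hm => by
      rw [← cancel_epi eP.hom, Iso.hom_inv_id_assoc]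
      refine Cofan.IsColimit.hom_ext hc _ _ (fun j => ?_)
      have h2 : g' j ≫ Cofan.IsColimit.desc hc (fun j => (e j).hom ≫ s.inj j) =
          (e j).hom ≫ s.inj j := Cofan.IsColimit.fac hc _ j
      change g' j ≫ eP.hom ≫ m = g' j ≫ _
      rw [h2, reassoc_of% (h j)]
      congr 1
      exact hm j)

end Transport

section PresCoprod

variable {φ} {W : DRing.Cx A} {T : Dual.D R ⥤ Dual.D A} (m : Model φ W T)

include m in
/-- a functor modelled on the mixed tensor product preserves coproducts -/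
theorem Model.presCoprod : PresCoprod.{u} T := by
  classical
  intro J X P g hc
  choose F hF e using fun j => Groth.Agent.Lib.Helper5.KProj.exists_kproj_rep (X j)
  let ε : ∀ j, Q.obj (F j) ≅ X j := fun j => (e j).some
  have hcK := isColimitCofan F
  have hc' : IsColimit (Cofan.mk P (fun j => (ε j).hom ≫ g j)) :=
    isColimitCofanOfIso (fun j => (ε j).symm) (Iso.refl P) (fun j => by simp) hc
  let eP : Q.obj (cK F) ≅ P := IsColimit.coconePointUniqueUpToIso hcK hc'
  have heP : ∀ j, Q.map (inK F j) ≫ eP.hom = (ε j).hom ≫ g j := fun j =>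
    IsColimit.comp_coconePointUniqueUpToIso_hom hcK hc' ⟨j⟩
  have hK : (cK F).IsKProjective := isKProjective_cK F hF
  have hcG := isColimitCofan (fun j => (GW φ W).obj (F j))
  refine ⟨isColimitCofanOfIso
    (fun j => (m.iso (F j) (hF j)).symm ≪≫ T.mapIso (ε j))
    (Q.mapIso (asIso (κ φ F W)) ≪≫ (m.iso (cK F) hK).symm ≪≫ T.mapIso eP) (fun j => ?_) hcG⟩
  have n1 := m.iso_hom_naturality (hF j) hK (inK F j)
  have n2 : Q.map ((GW φ W).map (inK F j)) ≫ (m.iso (cK F) hK).inv =
      (m.iso (F j) (hF j)).inv ≫ T.map (Q.map (inK F j)) := by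
    rw [← cancel_mono (m.iso (cK F) hK).hom, Category.assoc, Iso.inv_hom_id, Category.comp_id,
      Category.assoc, n1, Iso.inv_hom_id_assoc]
  dsimp only [Iso.trans_hom, Iso.symm_hom, Functor.mapIso_hom, asIso_hom]
  rw [← Q.map_comp_assoc, inK_κ, ← Category.assoc, n2, Category.assoc, Category.assoc,
    ← T.map_comp, ← T.map_comp, heP]

end PresCoprod

end Helper5.Gen
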