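import Mathlib
import Groth.Prelude.Def_Wider
import Groth.Prelude.Def_DDual2
import Groth.Agent.Lib.Helper5.Gen.Compact

/-!
# The right adjoint of restriction along a perfect ring map: the generation principle

A natural transformation `T ⟶ Rφ` from a weakly exact, coproduct preserving functor to a right
adjoint of restriction of scalars along `φ : R → A` with `A` perfect over `R` is an isomorphism
as soon as it is one on all shifts of `R`.
-/

set_option autoImplicit false
set_option linter.unusedSectionVars false
set_option linter.unusedVariables false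
universe u
open CategoryTheory CategoryTheory.Limits Pretriangulated
attribute [local instance] HasDerivedCategory.standard

namespace Helper5.Gen

open Groth.Agent.Helper3.CptGen Groth.Agent.Helper3.CptTri DerivedCategory

variable {R A : Type u} [CommRing R] [CommRing A] (φ : R →+* A)
  {Rφ : Dual.D R ⥤ Dual.D A} (adj : DRing.restrictD φ ⊣ Rφ)
  (hperf : DRing.IsPerfect R ((DRing.restrictD φ).obj (Dual.inD A A)))

include hperf in
theorem weakCpt_restrict_shift (n : ℤ) :
    WeakCpt.{u} ((DRing.restrictD φ).obj ((Dual.inD A A)⟦n⟧)) :=
  weakCpt_of_iso (K := (DRing.restrictD φ).obj ((Dual.inD A A)⟦n⟧))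
    (X := ((DRing.restrictD φ).obj (Dual.inD A A))⟦n⟧)
    (((DRing.restrictD φ).commShiftIso n).app (Dual.inD A A))
    (weakCpt_shift (weakCpt_of_isPerfect _ hperf) n)

include adj hperf in
/-- the right adjoint of restriction along a perfect ring map preserves coproducts -/
theorem presCoprod_of_perfect : PresCoprod.{u} Rφ :=
  presCoprod_rightAdjoint adj (weakCpt_restrict_shift φ hperf)

include adj hperf in
/-- **the generation principle for the right adjoint of restriction along a perfect map** -/
theorem isIso_of_perfect (T : Dual.D R ⥤ Dual.D A) (hT₁ : CoyExact T) (hT₂ : PresCoprod.{u} T)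
    (τ : T ⟶ Rφ) (h0 : ∀ n : ℤ, IsIso (τ.app ((Dual.inD R R)⟦n⟧))) : IsIso τ := by
  have c₂ : PresCoprod.{u} Rφ := presCoprod_of_perfect φ adj hperf
  have : ∀ K, IsIso (τ.app K) := fun K =>
    isIso_app_of_unit τ hT₁ (coyExact_rightAdjoint adj) hT₂ c₂
      (PresCoprod.down.{0, u} hT₂) (PresCoprod.down.{0, u} c₂) h0 K
  exact NatIso.isIso_of_isIso_app τ

end Helper5.Gen
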