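import Mathlib
import Groth.Prelude.Def_DTen5

/-!
# The module level projection formula `M ⊗_R N|_R ≅ ((A ⊗_R M) ⊗_A N)|_R`
-/

set_option autoImplicit false
set_option linter.unusedSectionVars false
set_option linter.unusedVariables false
universe u
open CategoryTheory CategoryTheory.Limits MonoidalCategory TensorProduct

namespace Helper5.Gen

open DTen

variable {R A : Type u} [CommRing R] [CommRing A] (φ : R →+* A)
  (M : ModuleCat.{u} R) (N : ModuleCat.{u} A)

/-- extension of scalars on modules -/
noncomputable abbrev extM : ModuleCat.{u} R ⥤ ModuleCat.{u} A := ModuleCat.extendScalars.{u, u, u} φ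

/-- the projection formula map `m ⊗ n ↦ (1 ⊗ m) ⊗ n` -/
noncomputable def bMap : M ⊗ (resM φ).obj N ⟶ (resM φ).obj ((extM φ).obj M ⊗ N) :=
  ((ModuleCat.extendRestrictScalarsAdj.{u, u, u} φ).unit.app M ▷ (resM φ).obj N) ≫
    resTen₀app φ ((extM φ).obj M) N

lemma bMap_tmul (m : M) (n : N) :
    (bMap φ M N).hom (m ⊗ₜ[R] (show (resM φ).obj N from n)) =
      (show (resM φ).obj ((extM φ).obj M ⊗ N) from
        (((1 : A) ⊗ₜ[R] m : (extM φ).obj M) ⊗ₜ[A] n : ((extM φ).obj M ⊗ N : ModuleCat.{u} A))) := by
  rfl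

/-- the `R`-module `M ⊗_R N|_R` -/
noncomputable abbrev Tgt : ModuleCat.{u} R := M ⊗ (resM φ).obj N

/-- `m ↦ m ⊗ b`, additive in `m` -/
noncomputable def tmulRight (b : N) : M →+ Tgt φ M N where
  toFun m := m ⊗ₜ[R] (show (resM φ).obj N from b)
  map_zero' := TensorProduct.zero_tmul _ _
  map_add' m m' := TensorProduct.add_tmul _ _ _

/-- `a ↦ (m ↦ m ⊗ a • n)` -/
noncomputable def invAux₁ (n : N) : A →+ M →+ Tgt φ M N where
  toFun a := tmulRight φ M N (a • n)
  map_zero' := by
    ext m
    change m ⊗ₜ[R] (show (resM φ).obj N from (0 : A) • n) = 0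
    rw [zero_smul]
    exact TensorProduct.tmul_zero _ _
  map_add' a a' := by
    ext m
    change m ⊗ₜ[R] (show (resM φ).obj N from (a + a') • n) =
      m ⊗ₜ[R] (show (resM φ).obj N from a • n) + m ⊗ₜ[R] (show (resM φ).obj N from a' • n)
    rw [add_smul]
    exact TensorProduct.tmul_add _ _ _

/-- the underlying tensor product of `A ⊗_R M` -/
abbrev EM : Type u := ((ModuleCat.restrictScalars.{u} φ).obj (ModuleCat.of A A)) ⊗[R] M

/-- `a ⊗ m ↦ m ⊗ a • n` on `A ⊗_R M` -/
noncomputable def invAux₂ (n : N) : EM φ M →+ Tgt φ M N :=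
  TensorProduct.liftAddHom (R := R) (M := (ModuleCat.restrictScalars.{u} φ).obj (ModuleCat.of A A))
    (N := M) (invAux₁ φ M N n) (fun r a m => by
      change m ⊗ₜ[R] (show (resM φ).obj N from ((φ r * (show A from a) : A)) • n) =
        (r • m) ⊗ₜ[R] (show (resM φ).obj N from (show A from a) • n)
      rw [TensorProduct.smul_tmul, mul_smul]
      rfl)

lemma invAux₂_tmul (n : N) (a : A) (m : M) :
    invAux₂ φ M N n (a ⊗ₜ[R] m) = m ⊗ₜ[R] (show (resM φ).obj N from a • n) := rfl

lemma invAux₂_zero (x : EM φ M) : invAux₂ φ M N 0 x = 0 := by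
  induction x using TensorProduct.induction_on with
  | zero => exact (invAux₂ φ M N 0).map_zero
  | tmul a m =>
    change m ⊗ₜ[R] (show (resM φ).obj N from (show A from a) • (0 : N)) = 0
    rw [smul_zero]
    exact TensorProduct.tmul_zero _ _
  | add x y hx hy =>
    exact ((invAux₂ φ M N 0).map_add x y).trans (by rw [hx, hy, add_zero])

lemma invAux₂_add (n n' : N) (x : EM φ M) :
    invAux₂ φ M N (n + n') x = invAux₂ φ M N n x + invAux₂ φ M N n' x := by
  induction x using TensorProduct.induction_on with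
  | zero =>
    exact ((invAux₂ φ M N (n + n')).map_zero).trans
      (by rw [(invAux₂ φ M N n).map_zero, (invAux₂ φ M N n').map_zero, add_zero])
  | tmul a m =>
    change m ⊗ₜ[R] (show (resM φ).obj N from (show A from a) • (n + n')) =
      m ⊗ₜ[R] (show (resM φ).obj N from (show A from a) • n) +
        m ⊗ₜ[R] (show (resM φ).obj N from (show A from a) • n')
    rw [smul_add]
    exact TensorProduct.tmul_add _ _ _
  | add x y hx hy =>
    rw [(invAux₂ φ M N (n + n')).map_add, (invAux₂ φ M N n).map_add,
      (invAux₂ φ M N n').map_add, hx, hy]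
    abel

set_option backward.isDefEq.respectTransparency false in
lemma invAux₂_smul (s : A) (n : N) (x : EM φ M) :
    invAux₂ φ M N n ((show EM φ M from (s • (show (extM φ).obj M from x) : (extM φ).obj M))) =
      invAux₂ φ M N (s • n) x := by
  induction x using TensorProduct.induction_on with
  | zero =>
    have : (s • (show (extM φ).obj M from (0 : EM φ M)) : (extM φ).obj M) = 0 := smul_zero s
    rw [this]
    exact ((invAux₂ φ M N n).map_zero).trans ((invAux₂ φ M N (s • n)).map_zero).symm
  | tmul a m =>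
    change m ⊗ₜ[R] (show (resM φ).obj N from ((s * (show A from a) : A)) • n) =
      m ⊗ₜ[R] (show (resM φ).obj N from (show A from a) • (s • n))
    rw [mul_comm, mul_smul]
  | add x y hx hy =>
    have : (s • (show (extM φ).obj M from (x + y : EM φ M)) : (extM φ).obj M) =
        s • (show (extM φ).obj M from x) + s • (show (extM φ).obj M from y) := smul_add s _ _
    rw [this]
    exact ((invAux₂ φ M N n).map_add _ _).trans
      ((congrArg₂ (· + ·) hx hy).trans ((invAux₂ φ M N (s • n)).map_add x y).symm)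

/-- `x ↦ (n ↦ invAux₂ n x)` -/
noncomputable def invAux₃ : EM φ M →+ N →+ Tgt φ M N where
  toFun x :=
    { toFun := fun n => invAux₂ φ M N n x
      map_zero' := invAux₂_zero φ M N x
      map_add' := fun n n' => invAux₂_add φ M N n n' x }
  map_zero' := by
    ext n
    exact (invAux₂ φ M N n).map_zero
  map_add' x y := by
    ext n
    exact (invAux₂ φ M N n).map_add x y

/-- the inverse of the projection formula map, as an additive map -/
noncomputable def bInv : ((extM φ).obj M ⊗ N : ModuleCat.{u} A) →+ Tgt φ M N :=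
  TensorProduct.liftAddHom (R := A) (M := (extM φ).obj M) (N := N) (invAux₃ φ M N)
    (fun s x n => invAux₂_smul φ M N s n x)

lemma bInv_tmul (a : A) (m : M) (n : N) :
    bInv φ M N (((a ⊗ₜ[R] m : (extM φ).obj M) ⊗ₜ[A] n :
      ((extM φ).obj M ⊗ N : ModuleCat.{u} A))) =
      m ⊗ₜ[R] (show (resM φ).obj N from a • n) := rfl

set_option backward.isDefEq.respectTransparency false in
lemma bInv_bMap (z : Tgt φ M N) :
    bInv φ M N ((bMap φ M N).hom z) = z := by
  induction z using TensorProduct.induction_on with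
  | zero =>
    rw [map_zero]
    exact (bInv φ M N).map_zero
  | tmul m n =>
    change m ⊗ₜ[R] (show (resM φ).obj N from (1 : A) • (show N from n)) = m ⊗ₜ[R] n
    rw [one_smul]
  | add x y hx hy =>
    rw [map_add]
    exact ((bInv φ M N).map_add _ _).trans (congrArg₂ (· + ·) hx hy)

set_option backward.isDefEq.respectTransparency false in
lemma bMap_bInv (y : ((extM φ).obj M ⊗ N : ModuleCat.{u} A)) :
    (bMap φ M N).hom (bInv φ M N y) =
      (show (resM φ).obj ((extM φ).obj M ⊗ N) from y) := by
  induction y using TensorProduct.induction_on with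
  | zero =>
    rw [(bInv φ M N).map_zero, map_zero]
  | tmul x n =>
    induction x using TensorProduct.induction_on with
    | zero =>
      have : ((0 : EM φ M) ⊗ₜ[A] n : ((extM φ).obj M ⊗ N : ModuleCat.{u} A)) = 0 :=
        TensorProduct.zero_tmul _ _
      rw [this, (bInv φ M N).map_zero, map_zero]
    | tmul a m =>
      change (show (resM φ).obj ((extM φ).obj M ⊗ N) from
        (((1 : A) ⊗ₜ[R] m : (extM φ).obj M) ⊗ₜ[A] ((show A from a) • n) :
          ((extM φ).obj M ⊗ N : ModuleCat.{u} A))) = _
      have h1 : (((1 : A) ⊗ₜ[R] m : (extM φ).obj M) ⊗ₜ[A] ((show A from a) • n) :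
          ((extM φ).obj M ⊗ N : ModuleCat.{u} A)) =
          (((show A from a) • ((1 : A) ⊗ₜ[R] m : (extM φ).obj M)) ⊗ₜ[A] n) :=
        (TensorProduct.smul_tmul _ _ _).symm
      rw [h1, ModuleCat.ExtendScalars.smul_tmul, mul_one]
    | add x x' hx hx' =>
      have : ((x + x' : EM φ M) ⊗ₜ[A] n : ((extM φ).obj M ⊗ N : ModuleCat.{u} A)) =
          (show (extM φ).obj M from x) ⊗ₜ[A] n + (show (extM φ).obj M from x') ⊗ₜ[A] n :=
        TensorProduct.add_tmul _ _ _
      rw [this, (bInv φ M N).map_add, map_add, hx, hx']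
  | add y y' hy hy' =>
    rw [(bInv φ M N).map_add, map_add, hy, hy']

instance isIso_bMap : IsIso (bMap φ M N) := by
  rw [ConcreteCategory.isIso_iff_bijective]
  refine Function.bijective_iff_has_inverse.2 ⟨fun y => bInv φ M N y, ?_, ?_⟩
  · intro z
    exact bInv_bMap φ M N z
  · intro y
    exact bMap_bInv φ M N y

end Helper5.Gen
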