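import Mathlib
import Groth.Prelude.Def_DTen5
import Groth.Agent.Lib.Helper5.Gen.ProjMod

/-!
# The chain level projection formula `F ⊗_R W|_R ≅ ((F ⊗_R A) ⊗_A W)|_R`
-/

set_option autoImplicit false
set_option linter.unusedSectionVars false
set_option linter.unusedVariables false
set_option backward.isDefEq.respectTransparency false
universe u
open CategoryTheory CategoryTheory.Limits MonoidalCategory

namespace Helper5.Gen

open DTen HomologicalComplex

variable {R A : Type u} [CommRing R] [CommRing A] (φ : R →+* A)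
  (F : DRing.Cx R) (W : DRing.Cx A)

/-- the chain level projection formula map -/
noncomputable def pf : F ⊗ (resCx φ).obj W ⟶ (resCx φ).obj ((extCx φ).obj F ⊗ W) :=
  ((unitCx φ).app F ▷ (resCx φ).obj W) ≫ resTenCx φ ((extCx φ).obj F) W

@[reassoc]
lemma ι_pf (p q n : ℤ) (h : p + q = n) :
    ιTensorObj F ((resCx φ).obj W) p q n h ≫ (pf φ F W).f n =
      bMap φ (F.X p) (W.X q) ≫ (resM φ).map (ιTensorObj ((extCx φ).obj F) W p q n h) := by
  have h1 := ι_mapBifunctorMap ((unitCx φ).app F) (𝟙 ((resCx φ).obj W))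
    (curriedTensor (ModuleCat.{u} R)) (ComplexShape.up ℤ) p q n h
  rw [HomologicalComplex.id_f, CategoryTheory.Functor.map_id, Category.id_comp] at h1
  have h2 := ι_resTenCx φ ((extCx φ).obj F) W p q n h
  dsimp only [pf]
  rw [HomologicalComplex.comp_f]
  erw [reassoc_of% h1, h2]
  rfl

lemma pf_naturality {F F' : DRing.Cx R} (f : F ⟶ F') :
    (f ▷ (resCx φ).obj W) ≫ pf φ F' W =
      pf φ F W ≫ (resCx φ).map ((extCx φ).map f ▷ W) := by
  have h1 := (unitCx φ).naturality f
  have h2 := resTenCx_naturality φ ((extCx φ).map f) (𝟙 W)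
  rw [CategoryTheory.Functor.map_id, MonoidalCategory.tensorHom_id,
    MonoidalCategory.tensorHom_id] at h2
  dsimp only [pf]
  rw [Category.assoc, ← h2, ← Category.assoc, ← Category.assoc, ← MonoidalCategory.comp_whiskerRight,
    ← MonoidalCategory.comp_whiskerRight]
  congr 2

/-- the inverse of the projection formula map in a fixed degree -/
noncomputable def pfInv (n : ℤ) :
    ((resCx φ).obj ((extCx φ).obj F ⊗ W)).X n ⟶ (F ⊗ (resCx φ).obj W).X n :=
  (TotMap.mapTotalXIso (resM φ) (tenBicx ((extCx φ).obj F) W) (ComplexShape.up ℤ) n).hom ≫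
    HomologicalComplex₂.totalDesc _ (fun p q h =>
      inv (bMap φ (F.X p) (W.X q)) ≫ ιTensorObj F ((resCx φ).obj W) p q n h)

lemma pf_pfInv (n : ℤ) : (pf φ F W).f n ≫ pfInv φ F W n = 𝟙 _ := by
  refine HomologicalComplex.mapBifunctor.hom_ext (fun p q h => ?_)
  refine Eq.trans ?_ (Category.comp_id _).symm
  rw [ι_pf_assoc]
  dsimp only [pfInv]
  have h1 := TotMap.map_ιTotal_mapTotalXIso_hom (resM φ) (tenBicx ((extCx φ).obj F) W)
    (ComplexShape.up ℤ) p q n h
  erw [reassoc_of% h1, HomologicalComplex₂.ι_totalDesc]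
  rw [IsIso.hom_inv_id_assoc]

lemma pfInv_pf (n : ℤ) : pfInv φ F W n ≫ (pf φ F W).f n = 𝟙 _ := by
  dsimp only [pfInv]
  rw [Category.assoc, ← cancel_epi (TotMap.mapTotalXIso (resM φ) (tenBicx ((extCx φ).obj F) W)
    (ComplexShape.up ℤ) n).inv, Iso.inv_hom_id_assoc]
  refine Eq.trans ?_ (Category.comp_id _).symm
  refine TotMap.mapTotalXIso_inv_unique (resM φ) (tenBicx ((extCx φ).obj F) W)
    (ComplexShape.up ℤ) n _ (fun p q h => ?_)
  erw [HomologicalComplex₂.ι_totalDesc_assoc]
  rw [Category.assoc]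
  erw [ι_pf φ F W p q n h]
  rw [IsIso.inv_hom_id_assoc]

instance isIso_pf : IsIso (pf φ F W) := by
  haveI : ∀ n, IsIso ((pf φ F W).f n) := fun n =>
    ⟨⟨pfInv φ F W n, pf_pfInv φ F W n, pfInv_pf φ F W n⟩⟩
  exact HomologicalComplex.Hom.isIso_of_components _

end Helper5.Gen
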