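import Mathlib
import Groth.Prelude.Def_DTen5
import Groth.Agent.Lib.Helper5.Gen.ProjCx
import Groth.Agent.Lib.Helper5.DTenLib.ShiftUnit

/-!
# Compatibility of the chain level projection formula with shifts and units
-/

set_option autoImplicit false
set_option linter.unusedSectionVars false
set_option linter.unusedVariables false
set_option backward.isDefEq.respectTransparency false
universe u
open CategoryTheory CategoryTheory.Limits MonoidalCategory

namespace Helper5.Gen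

open DTen HomologicalComplex CochainComplex

variable {R A : Type u} [CommRing R] [CommRing A] (φ : R →+* A)

section RS

variable (Y W : DRing.Cx A) (n : ℤ)

/-- the shift isomorphism in the first variable of the tensor product -/
noncomputable abbrev sh₁ {B : Type u} [CommRing B] (K L : DRing.Cx B) (n : ℤ) :
    (K⟦n⟧) ⊗ L ≅ (K ⊗ L)⟦n⟧ :=
  mapBifunctorShift₁Iso K L (curriedTensor (ModuleCat.{u} B)) n

/-- restriction of scalars commutes with shifts -/
noncomputable abbrev rcs (Y : DRing.Cx A) (n : ℤ) :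
    (resCx φ).obj (Y⟦n⟧) ≅ ((resCx φ).obj Y)⟦n⟧ :=
  ((resCx φ).commShiftIso n).app Y

set_option backward.defeqAttrib.useBackward true in
lemma ι_sh₁ {B : Type u} [CommRing B] (K L : DRing.Cx B) (n p q k : ℤ) (h : p + q = k) :
    ιTensorObj (K⟦n⟧) L p q k h ≫ (sh₁ K L n).hom.f k =
      ιTensorObj K L (p + n) q (k + n) (by omega) := by
  have := ι_mapBifunctorShift₁Iso_hom_f K L (curriedTensor (ModuleCat.{u} B)) n p q k h
    (p + n) (k + n) rfl rfl
  simpa [shiftFunctorObjXIso, HomologicalComplex.XIsoOfEq] using this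

set_option backward.defeqAttrib.useBackward true in
/-- `resTenCx` commutes with shifts in the first variable -/
lemma resTenCx_shift :
    ((rcs φ Y n).inv ▷ (resCx φ).obj W) ≫ resTenCx φ (Y⟦n⟧) W ≫
        (resCx φ).map (sh₁ Y W n).hom ≫ (rcs φ (Y ⊗ W) n).hom =
      (sh₁ ((resCx φ).obj Y) ((resCx φ).obj W) n).hom ≫ (resTenCx φ Y W)⟦n⟧' := by
  refine HomologicalComplex.hom_ext _ _ (fun k =>
    HomologicalComplex.mapBifunctor.hom_ext (fun p q h => ?_))
  have h' : p + q = k := h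
  have h1 := ι_mapBifunctorMap (rcs φ Y n).inv (𝟙 ((resCx φ).obj W))
    (curriedTensor (ModuleCat.{u} R)) (ComplexShape.up ℤ) p q k h
  have h2 := ι_resTenCx φ (Y⟦n⟧) W p q k h
  have h3 := ι_sh₁ Y W n p q k h
  have h4 := ι_sh₁ ((resCx φ).obj Y) ((resCx φ).obj W) n p q k h
  have h5 := ι_resTenCx φ Y W (p + n) q (k + n) (by omega)
  simp only [HomologicalComplex.comp_f]
  erw [reassoc_of% h1, reassoc_of% h4]
  have e1 : (rcs φ Y n).inv.f p = 𝟙 _ := rfl
  have e2 : (rcs φ (Y ⊗ W) n).hom.f k = 𝟙 _ := rfl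
  have e3 : ((CategoryTheory.shiftFunctor (DRing.Cx R) n).map (resTenCx φ Y W)).f k =
      (resTenCx φ Y W).f (k + n) := rfl
  have e4 : ((resCx φ).map (sh₁ Y W n).hom).f k = (resM φ).map ((sh₁ Y W n).hom.f k) := rfl
  rw [e1, e2, e3, e4, HomologicalComplex.id_f, CategoryTheory.Functor.map_id,
    CategoryTheory.Functor.map_id, NatTrans.id_app, Category.id_comp, Category.id_comp,
    Category.comp_id]
  erw [reassoc_of% h2, h5, ← (resM φ).map_comp, h3]
  rfl

end RS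

section PS

variable (X : DRing.Cx R) (W : DRing.Cx A) (n : ℤ)

/-- extension of scalars commutes with shifts -/
noncomputable abbrev ecs (X : DRing.Cx R) (n : ℤ) :
    (extCx φ).obj (X⟦n⟧) ≅ ((extCx φ).obj X)⟦n⟧ :=
  ((extCx φ).commShiftIso n).app X

lemma unitCx_shift :
    (unitCx φ).app (X⟦n⟧) ≫ (resCx φ).map (ecs φ X n).hom =
      ((unitCx φ).app X)⟦n⟧' ≫ (rcs φ ((extCx φ).obj X) n).inv := by
  ext i : 1
  change (ModuleCat.extendRestrictScalarsAdj.{u, u, u} φ).unit.app (X.X (i + n)) ≫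
      (resM φ).map (𝟙 ((ModuleCat.extendScalars.{u, u, u} φ).obj (X.X (i + n)))) =
    (ModuleCat.extendRestrictScalarsAdj.{u, u, u} φ).unit.app (X.X (i + n)) ≫ 𝟙 _
  rw [CategoryTheory.Functor.map_id]
  rfl

/-- the chain level projection formula commutes with shifts -/
lemma pf_shift :
    pf φ (X⟦n⟧) W ≫ (resCx φ).map (((ecs φ X n).hom ▷ W) ≫ (sh₁ ((extCx φ).obj X) W n).hom) ≫
        (rcs φ ((extCx φ).obj X ⊗ W) n).hom =
      (sh₁ X ((resCx φ).obj W) n).hom ≫ (pf φ X W)⟦n⟧' := by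
  have hA := resTenCx_naturality φ (ecs φ X n).hom (𝟙 W)
  rw [CategoryTheory.Functor.map_id, MonoidalCategory.tensorHom_id,
    MonoidalCategory.tensorHom_id] at hA
  have hB := unitCx_shift φ X n
  have hC := resTenCx_shift φ ((extCx φ).obj X) W n
  have hD : (((unitCx φ).app X)⟦n⟧' ▷ (resCx φ).obj W) ≫
      (sh₁ ((resCx φ).obj ((extCx φ).obj X)) ((resCx φ).obj W) n).hom =
      (sh₁ X ((resCx φ).obj W) n).hom ≫ ((unitCx φ).app X ▷ (resCx φ).obj W)⟦n⟧' := by
    rw [← MonoidalCategory.tensorHom_id, ← MonoidalCategory.tensorHom_id]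
    exact mapBifunctorShift₁Iso_hom_naturality₁ ((unitCx φ).app X) ((resCx φ).obj W)
      (curriedTensor (ModuleCat.{u} R)) n
  dsimp only [pf]
  rw [Functor.map_comp, Category.assoc, Category.assoc, ← reassoc_of% hA,
    ← MonoidalCategory.comp_whiskerRight_assoc, hB, MonoidalCategory.comp_whiskerRight_assoc,
    hC, reassoc_of% hD, ← Functor.map_comp]

end PS

section PU

open TensorProduct

variable (W : DRing.Cx A)

lemma bMap_naturality {M M' : ModuleCat.{u} R} (g : M ⟶ M') (N : ModuleCat.{u} A) :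
    (g ▷ (resM φ).obj N) ≫ bMap φ M' N =
      bMap φ M N ≫ (resM φ).map ((extM φ).map g ▷ N) := by
  apply ModuleCat.hom_ext
  apply TensorProduct.ext'
  intro m n
  rfl

/-- the counit `A ⊗_R R ⟶ A` of extension of scalars on the unit -/
noncomputable abbrev η₀ : (extM φ).obj (𝟙_ (ModuleCat.{u} R)) ⟶ 𝟙_ (ModuleCat.{u} A) :=
  Functor.OplaxMonoidal.η (extM φ)

lemma η₀_one : (η₀ φ).hom ((1 : A) ⊗ₜ[R] (1 : R)) = (1 : A) := by
  letI := φ.toAlgebra
  have h := ModuleCat.extendScalars_η φ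
  change (η₀ φ) = _ at h
  rw [h]
  change (AlgebraTensorModule.rid R A A) ((1 : A) ⊗ₜ[R] (1 : R)) = 1
  rw [AlgebraTensorModule.rid_tmul, one_smul]

lemma unit_mod (N : ModuleCat.{u} A) :
    (λ_ ((resM φ).obj N)).inv ≫ bMap φ (𝟙_ (ModuleCat.{u} R)) N ≫
        (resM φ).map (η₀ φ ▷ N) = (resM φ).map (λ_ N).inv := by
  apply ModuleCat.hom_ext
  apply LinearMap.ext
  intro w
  change (show (resM φ).obj (𝟙_ (ModuleCat.{u} A) ⊗ N) from
    (((η₀ φ).hom ((1 : A) ⊗ₜ[R] (1 : R))) ⊗ₜ[A] (show N from w) :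
      (𝟙_ (ModuleCat.{u} A) ⊗ N : ModuleCat.{u} A))) = _
  rw [η₀_one]
  rfl

/-- `𝟙_R ⊗_R A ≅ 𝟙_A` on complexes -/
noncomputable def ε₀ : (extCx φ).obj (𝟙_ (DRing.Cx R)) ≅ 𝟙_ (DRing.Cx A) :=
  (HomologicalComplex.singleMapHomologicalComplex (extM φ) (ComplexShape.up ℤ) 0).app
      (𝟙_ (ModuleCat.{u} R)) ≪≫
    (HomologicalComplex.single (ModuleCat.{u} A) (ComplexShape.up ℤ) 0).mapIso
      (Functor.Monoidal.εIso (extM φ)).symm

lemma ε₀_hom_f :
    (ε₀ φ).hom.f 0 =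
      (extM φ).map (HomologicalComplex.singleObjXSelf (ComplexShape.up ℤ) 0
        (𝟙_ (ModuleCat.{u} R))).hom ≫ η₀ φ ≫
      (HomologicalComplex.singleObjXSelf (ComplexShape.up ℤ) 0 (𝟙_ (ModuleCat.{u} A))).inv := by
  dsimp only [ε₀, Iso.trans_hom, Iso.app_hom, Functor.mapIso_hom, Iso.symm_hom]
  rw [HomologicalComplex.comp_f, HomologicalComplex.singleMapHomologicalComplex_hom_app_self,
    HomologicalComplex.single_map_f_self, Category.assoc, Iso.inv_hom_id_assoc]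
  rfl

/-- the projection formula on the unit, degreewise -/
lemma pf_unit_aux :
    (λ_ ((resCx φ).obj W)).inv ≫ pf φ (𝟙_ (DRing.Cx R)) W ≫
        (resCx φ).map ((ε₀ φ).hom ▷ W) = (resCx φ).map (λ_ W).inv := by
  ext i : 1
  have hL : (λ_ ((resCx φ).obj W)).inv.f i =
      (λ_ (((resCx φ).obj W).X i)).inv ≫
        ((HomologicalComplex.singleObjXSelf (ComplexShape.up ℤ) 0 (𝟙_ (ModuleCat.{u} R))).inv ▷
          (((resCx φ).obj W).X i)) ≫
        ιTensorObj (𝟙_ (DRing.Cx R)) ((resCx φ).obj W) 0 i i (zero_add i) :=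
    HomologicalComplex.leftUnitor'_inv ((resCx φ).obj W) i
  have hR : (λ_ W).inv.f i =
      (λ_ (W.X i)).inv ≫
        ((HomologicalComplex.singleObjXSelf (ComplexShape.up ℤ) 0 (𝟙_ (ModuleCat.{u} A))).inv ▷
          (W.X i)) ≫
        ιTensorObj (𝟙_ (DRing.Cx A)) W 0 i i (zero_add i) :=
    HomologicalComplex.leftUnitor'_inv W i
  have h1 := ι_pf φ (𝟙_ (DRing.Cx R)) W 0 i i (zero_add i)
  have h2 := ι_mapBifunctorMap (ε₀ φ).hom (𝟙 W)
    (curriedTensor (ModuleCat.{u} A)) (ComplexShape.up ℤ) 0 i i (zero_add i)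
  rw [HomologicalComplex.id_f, CategoryTheory.Functor.map_id, Category.id_comp] at h2
  have h3 := bMap_naturality φ
    (HomologicalComplex.singleObjXSelf (ComplexShape.up ℤ) 0 (𝟙_ (ModuleCat.{u} R))).inv (W.X i)
  have h4 := unit_mod φ (W.X i)
  have h5 : (extM φ).map (HomologicalComplex.singleObjXSelf (ComplexShape.up ℤ) 0
      (𝟙_ (ModuleCat.{u} R))).inv ≫ (ε₀ φ).hom.f 0 =
      η₀ φ ≫ (HomologicalComplex.singleObjXSelf (ComplexShape.up ℤ) 0
        (𝟙_ (ModuleCat.{u} A))).inv := by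
    rw [ε₀_hom_f, ← Functor.map_comp_assoc, Iso.inv_hom_id, CategoryTheory.Functor.map_id,
      Category.id_comp]
  have key : (λ_ ((resCx φ).obj W)).inv.f i ≫ (pf φ (𝟙_ (DRing.Cx R)) W).f i ≫
      (resM φ).map (((ε₀ φ).hom ▷ W).f i) = (resM φ).map ((λ_ W).inv.f i) := by
    rw [hL, hR]
    simp only [Category.assoc]
    erw [reassoc_of% h1]
    rw [← (resM φ).map_comp]
    erw [h2]
    erw [reassoc_of% h3]
    rw [← (resM φ).map_comp]
    have h6 : ((extM φ).map (HomologicalComplex.singleObjXSelf (ComplexShape.up ℤ) 0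
          (𝟙_ (ModuleCat.{u} R))).inv ▷ W.X i) ≫
        ((curriedTensor (ModuleCat.{u} A)).map ((ε₀ φ).hom.f 0)).app (W.X i) =
        (η₀ φ ▷ W.X i) ≫
          ((HomologicalComplex.singleObjXSelf (ComplexShape.up ℤ) 0
            (𝟙_ (ModuleCat.{u} A))).inv ▷ W.X i) := by
      change _ ≫ ((ε₀ φ).hom.f 0 ▷ W.X i) = _
      rw [← MonoidalCategory.comp_whiskerRight, h5, MonoidalCategory.comp_whiskerRight]
    erw [reassoc_of% h6]
    rw [(resM φ).map_comp, (resM φ).map_comp (λ_ (W.X i)).inv]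
    erw [reassoc_of% h4]
  exact key

/-- the projection formula on the unit -/
lemma pf_unit :
    pf φ (𝟙_ (DRing.Cx R)) W ≫ (resCx φ).map (((ε₀ φ).hom ▷ W) ≫ (λ_ W).hom) =
      (λ_ ((resCx φ).obj W)).hom := by
  have h := pf_unit_aux φ W
  rw [Functor.map_comp, ← Category.assoc, ← cancel_epi (λ_ ((resCx φ).obj W)).inv,
    Iso.inv_hom_id, ← Category.assoc, ← Category.assoc]
  rw [Category.assoc (λ_ ((resCx φ).obj W)).inv, h, ← Functor.map_comp, Iso.inv_hom_id,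
    CategoryTheory.Functor.map_id]

/-- `G_W(𝟙⟦n⟧) ≅ W⟦n⟧` -/
noncomputable def uIso (n : ℤ) :
    ((extCx φ).obj ((𝟙_ (DRing.Cx R))⟦n⟧)) ⊗ W ≅ W⟦n⟧ :=
  (tensorRight W).mapIso (ecs φ (𝟙_ (DRing.Cx R)) n) ≪≫
    sh₁ ((extCx φ).obj (𝟙_ (DRing.Cx R))) W n ≪≫
    (CategoryTheory.shiftFunctor (DRing.Cx A) n).mapIso
      ((tensorRight W).mapIso (ε₀ φ) ≪≫ λ_ W)

/-- the projection formula on the shifted unit -/
lemma pf_unit_shift (n : ℤ) :
    pf φ ((𝟙_ (DRing.Cx R))⟦n⟧) W ≫ (resCx φ).map (uIso φ W n).hom ≫ (rcs φ W n).hom =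
      (Groth.Agent.Lib.Helper5.DTenLib.shiftUnitTensorIso (A := R) n).hom.app
        ((resCx φ).obj W) := by
  have hnat := ((resCx φ).commShiftIso n).hom.naturality (((ε₀ φ).hom ▷ W) ≫ (λ_ W).hom)
  have hS := pf_shift φ (𝟙_ (DRing.Cx R)) W n
  have hU := pf_unit φ W
  dsimp only [Functor.comp_map] at hnat
  have e1 : (uIso φ W n).hom = (((ecs φ (𝟙_ (DRing.Cx R)) n).hom ▷ W) ≫
      (sh₁ ((extCx φ).obj (𝟙_ (DRing.Cx R))) W n).hom) ≫
      (((ε₀ φ).hom ▷ W) ≫ (λ_ W).hom)⟦n⟧' := by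
    dsimp only [uIso, Iso.trans_hom, Functor.mapIso_hom]
    rw [Category.assoc]
    rfl
  have e2 : (Groth.Agent.Lib.Helper5.DTenLib.shiftUnitTensorIso (A := R) n).hom.app
      ((resCx φ).obj W) = (sh₁ (𝟙_ (DRing.Cx R)) ((resCx φ).obj W) n).hom ≫
        ((λ_ ((resCx φ).obj W)).hom)⟦n⟧' := rfl
  rw [e1, e2, Functor.map_comp, Category.assoc]
  erw [hnat]
  rw [← Category.assoc, ← Category.assoc]
  erw [Category.assoc (pf φ ((𝟙_ (DRing.Cx R))⟦n⟧) W), hS]
  rw [Category.assoc, ← Functor.map_comp, hU]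

end PU

end Helper5.Gen
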