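import Mathlib
import Groth.Prelude.Def_DTen5
import Groth.Agent.Lib.Helper5.Gen.ProjShift
import Groth.Agent.Lib.Helper5.Gen.MixCx
import Groth.Agent.Lib.Helper5.KFlat.Symm
import Groth.Agent.Lib.Helper5.KFlat.Res

/-!
# The counit `((F ⊗_R A) ⊗_A W)|_R ⟶ F` in the derived category and its adjunct
-/

set_option autoImplicit false
set_option linter.unusedSectionVars false
set_option linter.unusedVariables false
universe u
open CategoryTheory CategoryTheory.Limits MonoidalCategory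
attribute [local instance] HasDerivedCategory.standard

namespace Helper5.Gen

open DerivedCategory DTen Groth.Agent.Lib.Helper5.KProj Groth.Agent.Lib.Helper5.KFlat
  Groth.Agent.Lib.Helper5.DTenLib

section KFlat

variable {R : Type u} [CommRing R]

/-- K-projective complexes are K-flat -/
theorem isKFlat_of_isKProjective (F : DRing.Cx R) [F.IsKProjective] : DRing.IsKFlat R F := by
  haveI : IsIso (Q.map (resMap F)) := by
    rw [DerivedCategory.isIso_Q_map_iff_quasiIso]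
    infer_instance
  obtain ⟨g, hg⟩ := exists_Q_map_eq F (res F) (inv (Q.map (resMap F)))
  obtain ⟨h1⟩ := homotopy_of_Q_map_eq F (g ≫ resMap F) (𝟙 F) (by
    rw [Q.map_comp, hg, IsIso.inv_hom_id, Q.map_id])
  obtain ⟨h2⟩ := homotopy_of_Q_map_eq (res F) (resMap F ≫ g) (𝟙 (res F)) (by
    rw [Q.map_comp, hg, IsIso.hom_inv_id, Q.map_id])
  exact isKFlat_of_homotopyEquiv
    { hom := resMap F, inv := g, homotopyHomInvId := h2, homotopyInvHomId := h1 } (isKFlat_res F)

end KFlat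

section ShiftAdj

variable {C D : Type*} [Category C] [Category D] [HasShift C ℤ] [HasShift D ℤ]
  {L : C ⥤ D} {G : D ⥤ C} (adj : L ⊣ G) [L.CommShift ℤ]

include adj in
/-- the adjunct of a shifted map is an isomorphism if the adjunct of the map is -/
theorem isIso_homEquiv_shift {Y : C} {X : D} (c : L.obj Y ⟶ X) (n : ℤ)
    (h : IsIso (adj.homEquiv _ _ c)) :
    IsIso (adj.homEquiv _ _ ((L.commShiftIso n).hom.app Y ≫ c⟦n⟧')) := by
  letI := adj.rightAdjointCommShift ℤ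
  haveI : adj.CommShift ℤ := adj.commShift_of_leftAdjoint ℤ
  have h1 := adj.shift_unit_app n Y
  have h2 := (G.commShiftIso n).inv.naturality c
  dsimp only [Functor.comp_map] at h2
  have key : adj.homEquiv _ _ ((L.commShiftIso n).hom.app Y ≫ c⟦n⟧') =
      (adj.homEquiv _ _ c)⟦n⟧' ≫ (G.commShiftIso n).inv.app X := by
    rw [Adjunction.homEquiv_unit, Adjunction.homEquiv_unit, Functor.map_comp, Functor.map_comp,
      h1, Category.assoc, Category.assoc, h2, Category.assoc, Iso.hom_inv_id_app_assoc]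
  rw [key]
  infer_instance

end ShiftAdj

section Sigma

variable {R A : Type u} [CommRing R] [CommRing A] (φ : R →+* A)
  (W : DRing.Cx A) (c : (DRing.restrictD φ).obj (Q.obj W) ⟶ Q.obj (𝟙_ (DRing.Cx R)))

/-- the K-projective resolution of `W|_R` -/
noncomputable abbrev Vres : DRing.Cx R := res ((resCx φ).obj W)

/-- the resolution map -/
noncomputable abbrev sV : Vres φ W ⟶ (resCx φ).obj W := resMap ((resCx φ).obj W)

/-- the given map, from `Q(W|_R)` -/
noncomputable abbrev cV : Q.obj ((resCx φ).obj W) ⟶ Q.obj (𝟙_ (DRing.Cx R)) :=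
  (resFactors φ).inv.app W ≫ c

lemma exists_tV : ∃ t : Vres φ W ⟶ 𝟙_ (DRing.Cx R), Q.map t = Q.map (sV φ W) ≫ cV φ W c :=
  exists_Q_map_eq _ _ _

/-- a chain map representing the given map on the resolution -/
noncomputable def tV : Vres φ W ⟶ 𝟙_ (DRing.Cx R) := (exists_tV φ W c).choose

lemma Q_map_tV : Q.map (tV φ W c) = Q.map (sV φ W) ≫ cV φ W c := (exists_tV φ W c).choose_spec

instance isIso_Q_map_sV : IsIso (Q.map (sV φ W)) := by
  rw [DerivedCategory.isIso_Q_map_iff_quasiIso]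
  infer_instance

lemma inv_Q_sV_tV : inv (Q.map (sV φ W)) ≫ Q.map (tV φ W c) = cV φ W c := by
  rw [Q_map_tV, IsIso.inv_hom_id_assoc]

lemma isIso_Q_whiskerLeft_sV (F : DRing.Cx R) (hF : DRing.IsKFlat R F) :
    IsIso (Q.map (F ◁ sV φ W)) := by
  rw [DerivedCategory.isIso_Q_map_iff_quasiIso]
  exact quasiIso_whiskerLeft hF _ inferInstance

/-- the roof `Q(F ⊗ W|_R) ⟶ Q(F ⊗ 𝟙)` induced by the given map, for `F` K-flat -/
noncomputable def roof (F : DRing.Cx R) (hF : DRing.IsKFlat R F) :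
    Q.obj (F ⊗ (resCx φ).obj W) ⟶ Q.obj (F ⊗ 𝟙_ (DRing.Cx R)) :=
  haveI := isIso_Q_whiskerLeft_sV φ W F hF
  inv (Q.map (F ◁ sV φ W)) ≫ Q.map (F ◁ tV φ W c)

lemma roof_naturality {F F' : DRing.Cx R} (hF : DRing.IsKFlat R F) (hF' : DRing.IsKFlat R F')
    (f : F ⟶ F') :
    Q.map (f ▷ (resCx φ).obj W) ≫ roof φ W c F' hF' =
      roof φ W c F hF ≫ Q.map (f ▷ 𝟙_ (DRing.Cx R)) := by
  haveI := isIso_Q_whiskerLeft_sV φ W F hF
  haveI := isIso_Q_whiskerLeft_sV φ W F' hF'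
  dsimp only [roof]
  have e1 : (f ▷ Vres φ W) ≫ (F' ◁ sV φ W) = (F ◁ sV φ W) ≫ (f ▷ (resCx φ).obj W) :=
    (MonoidalCategory.whisker_exchange f (sV φ W)).symm
  have e2 : (f ▷ Vres φ W) ≫ (F' ◁ tV φ W c) = (F ◁ tV φ W c) ≫ (f ▷ 𝟙_ (DRing.Cx R)) :=
    (MonoidalCategory.whisker_exchange f (tV φ W c)).symm
  have e1' : Q.map (f ▷ (resCx φ).obj W) ≫ inv (Q.map (F' ◁ sV φ W)) =
      inv (Q.map (F ◁ sV φ W)) ≫ Q.map (f ▷ Vres φ W) := by
    rw [← cancel_mono (Q.map (F' ◁ sV φ W)), Category.assoc, IsIso.inv_hom_id, Category.comp_id,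
      Category.assoc, ← Q.map_comp, e1, Q.map_comp, IsIso.inv_hom_id_assoc]
  rw [← Category.assoc, e1', Category.assoc, ← Q.map_comp, e2, Q.map_comp, Category.assoc]

/-- the counit `((F ⊗_R A) ⊗_A W)|_R ⟶ F` in `D(R)`, for `F` K-flat -/
noncomputable def sigma (F : DRing.Cx R) (hF : DRing.IsKFlat R F) :
    (DRing.restrictD φ).obj (Q.obj ((GW φ W).obj F)) ⟶ Q.obj F :=
  (resFactors φ).hom.app ((GW φ W).obj F) ≫ inv (Q.map (pf φ F W)) ≫ roof φ W c F hF ≫
    Q.map (ρ_ F).hom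

lemma sigma_naturality {F F' : DRing.Cx R} (hF : DRing.IsKFlat R F) (hF' : DRing.IsKFlat R F')
    (f : F ⟶ F') :
    (DRing.restrictD φ).map (Q.map ((GW φ W).map f)) ≫ sigma φ W c F' hF' =
      sigma φ W c F hF ≫ Q.map f := by
  dsimp only [sigma]
  have n1 : (DRing.restrictD φ).map (Q.map ((GW φ W).map f)) ≫
      (resFactors φ).hom.app ((GW φ W).obj F') =
      (resFactors φ).hom.app ((GW φ W).obj F) ≫ Q.map ((resCx φ).map ((GW φ W).map f)) :=
    (resFactors φ).hom.naturality ((GW φ W).map f)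
  have n2 : Q.map ((resCx φ).map ((GW φ W).map f)) ≫ inv (Q.map (pf φ F' W)) =
      inv (Q.map (pf φ F W)) ≫ Q.map (f ▷ (resCx φ).obj W) := by
    rw [← cancel_mono (Q.map (pf φ F' W)), Category.assoc, IsIso.inv_hom_id, Category.comp_id,
      Category.assoc, ← Q.map_comp, pf_naturality, Q.map_comp, IsIso.inv_hom_id_assoc]
    rfl
  have n3 := roof_naturality φ W c hF hF' f
  have n4 : (f ▷ 𝟙_ (DRing.Cx R)) ≫ (ρ_ F').hom = (ρ_ F).hom ≫ f :=
    MonoidalCategory.rightUnitor_naturality f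
  calc (DRing.restrictD φ).map (Q.map ((GW φ W).map f)) ≫
        (resFactors φ).hom.app ((GW φ W).obj F') ≫ inv (Q.map (pf φ F' W)) ≫
          roof φ W c F' hF' ≫ Q.map (ρ_ F').hom
      = ((DRing.restrictD φ).map (Q.map ((GW φ W).map f)) ≫
          (resFactors φ).hom.app ((GW φ W).obj F')) ≫ inv (Q.map (pf φ F' W)) ≫
          roof φ W c F' hF' ≫ Q.map (ρ_ F').hom := by rw [Category.assoc]
    _ = (resFactors φ).hom.app ((GW φ W).obj F) ≫
          (Q.map ((resCx φ).map ((GW φ W).map f)) ≫ inv (Q.map (pf φ F' W))) ≫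
          roof φ W c F' hF' ≫ Q.map (ρ_ F').hom := by rw [n1, Category.assoc, Category.assoc]
    _ = (resFactors φ).hom.app ((GW φ W).obj F) ≫ inv (Q.map (pf φ F W)) ≫
          (Q.map (f ▷ (resCx φ).obj W) ≫ roof φ W c F' hF') ≫ Q.map (ρ_ F').hom := by
        rw [n2, Category.assoc, Category.assoc]
    _ = (resFactors φ).hom.app ((GW φ W).obj F) ≫ inv (Q.map (pf φ F W)) ≫
          roof φ W c F hF ≫ Q.map ((f ▷ 𝟙_ (DRing.Cx R)) ≫ (ρ_ F').hom) := by
        rw [n3, Category.assoc, Q.map_comp]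
    _ = ((resFactors φ).hom.app ((GW φ W).obj F) ≫ inv (Q.map (pf φ F W)) ≫
          roof φ W c F hF ≫ Q.map (ρ_ F).hom) ≫ Q.map f := by
        rw [n4, Q.map_comp]
        simp only [Category.assoc]

section Tau

variable {Rφ : Dual.D R ⥤ Dual.D A} (adj : DRing.restrictD φ ⊣ Rφ)

/-- the adjunct `Q((F ⊗_R A) ⊗_A W) ⟶ Rφ(QF)` of the counit -/
noncomputable def tau (F : DRing.Cx R) (hF : DRing.IsKFlat R F) :
    Q.obj ((GW φ W).obj F) ⟶ Rφ.obj (Q.obj F) :=
  adj.homEquiv _ _ (sigma φ W c F hF)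

lemma tau_naturality {F F' : DRing.Cx R} (hF : DRing.IsKFlat R F) (hF' : DRing.IsKFlat R F')
    (f : F ⟶ F') :
    Q.map ((GW φ W).map f) ≫ tau φ W c adj F' hF' = tau φ W c adj F hF ≫ Rφ.map (Q.map f) := by
  dsimp only [tau]
  rw [← adj.homEquiv_naturality_left, sigma_naturality φ W c hF hF' f,
    adj.homEquiv_naturality_right]

/-- the shifted unit complex -/
noncomputable abbrev Un (n : ℤ) : DRing.Cx R := (𝟙_ (DRing.Cx R))⟦n⟧

/-- `𝟙⟦n⟧ ⊗ - ≅ shift n` -/
noncomputable abbrev θn (n : ℤ) : tensorLeft (Un (R := R) n) ≅ shiftFunctor (DRing.Cx R) n :=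
  shiftUnitTensorIso (A := R) n

lemma roof_unit_shift (n : ℤ) (hF : DRing.IsKFlat R (Un (R := R) n)) :
    roof φ W c (Un n) hF ≫ Q.map ((θn n).hom.app (𝟙_ (DRing.Cx R))) ≫
        (Q.commShiftIso n).hom.app (𝟙_ (DRing.Cx R)) =
      Q.map ((θn n).hom.app ((resCx φ).obj W)) ≫ (Q.commShiftIso n).hom.app ((resCx φ).obj W) ≫
        (cV φ W c)⟦n⟧' := by
  haveI := isIso_Q_whiskerLeft_sV φ W (Un n) hF
  have t1 := (θn (R := R) n).hom.naturality (tV φ W c)
  have s1 := (θn (R := R) n).hom.naturality (sV φ W)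
  have et : (Un n ◁ tV φ W c) = (tensorLeft (Un (R := R) n)).map (tV φ W c) := rfl
  have es : (Un n ◁ sV φ W) = (tensorLeft (Un (R := R) n)).map (sV φ W) := rfl
  have t2 : Q.map ((tV φ W c)⟦n⟧') ≫ (Q.commShiftIso n).hom.app (𝟙_ (DRing.Cx R)) =
      (Q.commShiftIso n).hom.app (Vres φ W) ≫ (Q.map (tV φ W c))⟦n⟧' :=
    (Q.commShiftIso n).hom.naturality (tV φ W c)
  have s2 : Q.map ((sV φ W)⟦n⟧') ≫ (Q.commShiftIso n).hom.app ((resCx φ).obj W) =
      (Q.commShiftIso n).hom.app (Vres φ W) ≫ (Q.map (sV φ W))⟦n⟧' :=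
    (Q.commShiftIso n).hom.naturality (sV φ W)
  dsimp only [roof]
  rw [Category.assoc, ← Q.map_comp_assoc, et, t1, Q.map_comp_assoc, t2, Q_map_tV, Functor.map_comp,
    ← Category.assoc ((Q.commShiftIso n).hom.app (Vres φ W)), ← s2, Category.assoc,
    ← Q.map_comp_assoc, ← s1, Q.map_comp_assoc, ← es, IsIso.inv_hom_id_assoc]

lemma resFactors_shift (n : ℤ) :
    (resFactors φ).hom.app (W⟦n⟧) ≫ Q.map (rcs φ W n).hom ≫
        (Q.commShiftIso n).hom.app ((resCx φ).obj W) =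
      (DRing.restrictD φ).map ((Q.commShiftIso n).hom.app W) ≫
        ((DRing.restrictD φ).commShiftIso n).hom.app (Q.obj W) ≫
        ((resFactors φ).hom.app W)⟦n⟧' := by
  have h := NatTrans.shift_app_comm (resFactors φ).hom n W
  rw [Functor.commShiftIso_comp_hom_app, Functor.commShiftIso_comp_hom_app] at h
  rw [Category.assoc] at h
  exact h.symm

theorem sigma_unit_shift (n : ℤ) (hF : DRing.IsKFlat R (Un (R := R) n)) :
    sigma φ W c (Un n) hF ≫ inv (Q.map (ρ_ (Un (R := R) n)).hom) ≫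
        Q.map ((θn n).hom.app (𝟙_ (DRing.Cx R))) ≫
        (Q.commShiftIso n).hom.app (𝟙_ (DRing.Cx R)) =
      (DRing.restrictD φ).map (Q.map (uIso φ W n).hom ≫ (Q.commShiftIso n).hom.app W) ≫
        ((DRing.restrictD φ).commShiftIso n).hom.app (Q.obj W) ≫ c⟦n⟧' := by
  have r1 := roof_unit_shift φ W c n hF
  have r2 : inv (Q.map (pf φ (Un n) W)) ≫ Q.map ((θn n).hom.app ((resCx φ).obj W)) =
      Q.map ((resCx φ).map (uIso φ W n).hom) ≫ Q.map (rcs φ W n).hom := by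
    rw [IsIso.inv_comp_eq, ← Q.map_comp, ← Q.map_comp]
    congr 1
    exact (pf_unit_shift φ W n).symm
  have r3 := resFactors_shift φ W n
  have nat : (DRing.restrictD φ).map (Q.map (uIso φ W n).hom) ≫ (resFactors φ).hom.app (W⟦n⟧) =
      (resFactors φ).hom.app ((GW φ W).obj (Un n)) ≫ Q.map ((resCx φ).map (uIso φ W n).hom) :=
    (resFactors φ).hom.naturality (uIso φ W n).hom
  have hc : (cV φ W c)⟦n⟧' = ((resFactors φ).inv.app W)⟦n⟧' ≫ c⟦n⟧' := Functor.map_comp _ _ _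
  dsimp only [sigma]
  simp only [Category.assoc, IsIso.hom_inv_id_assoc]
  rw [r1, ← Category.assoc (inv (Q.map (pf φ (Un n) W))), r2, Category.assoc,
    ← Category.assoc ((resFactors φ).hom.app ((GW φ W).obj (Un n))), ← nat]
  simp only [Category.assoc]
  rw [reassoc_of% r3, hc, Functor.map_comp]
  simp only [Category.assoc]
  rw [← Functor.map_comp_assoc (shiftFunctor (Dual.D R) n), Iso.hom_inv_id_app]
  erw [CategoryTheory.Functor.map_id, Category.id_comp]

/-- **base case**: the adjunct of the counit is an isomorphism on the shifts of the unit -/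
theorem isIso_tau_unit_shift (n : ℤ) (hF : DRing.IsKFlat R (Un (R := R) n))
    (hc : IsIso (adj.homEquiv _ _ c)) : IsIso (tau φ W c adj (Un n) hF) := by
  let e : Q.obj (Un (R := R) n) ⟶ (Q.obj (𝟙_ (DRing.Cx R)))⟦n⟧ :=
    inv (Q.map (ρ_ (Un (R := R) n)).hom) ≫ Q.map ((θn n).hom.app (𝟙_ (DRing.Cx R))) ≫
      (Q.commShiftIso n).hom.app (𝟙_ (DRing.Cx R))
  haveI : IsIso e := by
    dsimp only [e]
    infer_instance
  let x : Q.obj ((GW φ W).obj (Un n)) ⟶ (Q.obj W)⟦n⟧ :=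
    Q.map (uIso φ W n).hom ≫ (Q.commShiftIso n).hom.app W
  haveI : IsIso x := by
    dsimp only [x]
    infer_instance
  let y : (DRing.restrictD φ).obj ((Q.obj W)⟦n⟧) ⟶ (Q.obj (𝟙_ (DRing.Cx R)))⟦n⟧ :=
    ((DRing.restrictD φ).commShiftIso n).hom.app (Q.obj W) ≫ c⟦n⟧'
  haveI : IsIso (adj.homEquiv _ _ y) := isIso_homEquiv_shift adj c n hc
  have h : sigma φ W c (Un n) hF = (DRing.restrictD φ).map x ≫ y ≫ inv e := by
    have := sigma_unit_shift φ W c n hF
    rw [← Category.assoc]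
    exact (IsIso.eq_comp_inv e).2 this
  have key : tau φ W c adj (Un n) hF = x ≫ adj.homEquiv _ _ y ≫ Rφ.map (inv e) := by
    dsimp only [tau]
    rw [h, adj.homEquiv_naturality_left, adj.homEquiv_naturality_right]
  rw [key]
  infer_instance

end Tau

end Sigma

end Helper5.Gen
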