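import Mathlib
import Groth.Prelude.Def_DTen5
import Groth.Agent.Lib.Helper5.Gen.Sigma
import Groth.Agent.Lib.Helper5.Gen.MixCoprod
import Groth.Agent.Lib.Helper5.Gen.KPDesc
import Groth.Agent.Lib.Helper5.Gen.PerfAdj

/-!
# The right adjoint of restriction along a perfect ring map is a tensor product

For `φ : R → A` with `A` perfect over `R`, any right adjoint `Rφ` of restriction of scalars
`D(A) ⥤ D(R)` is isomorphic to any functor modelled on `F ↦ (F ⊗_R A) ⊗_A W`, where `W` is a complex
representing `Rφ(R)`.
-/

set_option autoImplicit false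
set_option linter.unusedSectionVars false
set_option linter.unusedVariables false
universe u
open CategoryTheory CategoryTheory.Limits MonoidalCategory
attribute [local instance] HasDerivedCategory.standard

namespace Helper5.Gen

open DerivedCategory DTen

variable {R A : Type u} [CommRing R] [CommRing A]

instance projective_single_X (M : ModuleCat.{u} R) [Projective M] (n : ℤ) :
    Projective (((HomologicalComplex.single (ModuleCat.{u} R) (ComplexShape.up ℤ) 0).obj M).X n) := by
  by_cases h : n = 0
  · subst h
    exact Projective.of_iso (HomologicalComplex.singleObjXSelf (ComplexShape.up ℤ) 0 M).symm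
      inferInstance
  · exact (HomologicalComplex.isZero_single_obj_X (ComplexShape.up ℤ) 0 M n h).projective

instance isKProjective_unit : (𝟙_ (DRing.Cx R)).IsKProjective := by
  haveI : Projective (𝟙_ (ModuleCat.{u} R)) :=
    (inferInstance : Projective (ModuleCat.of R R))
  haveI : ∀ n : ℤ, Projective ((𝟙_ (DRing.Cx R)).X n) := fun n =>
    projective_single_X (𝟙_ (ModuleCat.{u} R)) n
  haveI : (𝟙_ (DRing.Cx R)).IsStrictlyLE 0 :=
    (inferInstance : CochainComplex.IsStrictlyLE
      ((HomologicalComplex.single (ModuleCat.{u} R) (ComplexShape.up ℤ) 0).obj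
        (𝟙_ (ModuleCat.{u} R))) 0)
  exact CochainComplex.isKProjective_of_projective _ 0

variable (φ : R →+* A) {Rφ : Dual.D R ⥤ Dual.D A} (adj : DRing.restrictD φ ⊣ Rφ)
  (hperf : DRing.IsPerfect R ((DRing.restrictD φ).obj (Dual.inD A A)))
  (W : DRing.Cx A) (c : (DRing.restrictD φ).obj (Q.obj W) ⟶ Q.obj (𝟙_ (DRing.Cx R)))
  (hc : IsIso (adj.homEquiv _ _ c))
  {T : Dual.D R ⥤ Dual.D A} (m : Model φ W T)

include adj hperf hc m in
/-- **the perfect formula**: a functor modelled on `F ↦ (F ⊗_R A) ⊗_A W`, with `W` representing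
`Rφ(R)`, is isomorphic to `Rφ`. -/
theorem nonempty_iso_of_model : Nonempty (T ≅ Rφ) := by
  obtain ⟨τ, hτ⟩ := exists_natTrans T Rφ
    (fun F hF => (m.iso F hF).hom ≫ tau φ W c adj F (@isKFlat_of_isKProjective _ _ F hF))
    (fun F F' hF hF' f => by
      rw [← Category.assoc, m.iso_hom_naturality hF hF' f, Category.assoc,
        tau_naturality φ W c adj (@isKFlat_of_isKProjective _ _ F hF)
          (@isKFlat_of_isKProjective _ _ F' hF') f, Category.assoc])
  haveI : IsIso τ := by
    refine isIso_of_perfect φ adj hperf T m.coyExact m.presCoprod τ (fun n => ?_)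
    have hU : (Un (R := R) n).IsKProjective := inferInstance
    have e : Q.obj (Un (R := R) n) ≅ (Dual.inD R R)⟦n⟧ :=
      (Q.commShiftIso n).app (𝟙_ (DRing.Cx R))
    refine isIso_app_of_iso τ e ?_
    rw [hτ _ hU]
    haveI := isIso_tau_unit_shift φ W c adj n (@isKFlat_of_isKProjective _ _ _ hU) hc
    infer_instance
  exact ⟨asIso τ⟩

end Helper5.Gen
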