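import Mathlib
import Groth.Agent.Lib.Helper5.Gen.PerfMain
import Groth.Agent.Lib.Helper5.Gen.ExtKProj
import Groth.Agent.Lib.Helper5.KSix.LTCx
import Groth.Agent.Lib.Helper5.KProj.LBC

/-!
# The derived functor `K ↦ (K ⊗^L_R A) ⊗^L_A W` is modelled on the mixed tensor product
-/

set_option autoImplicit false
set_option linter.unusedSectionVars false
set_option linter.unusedVariables false
set_option linter.style.haveILetI false
universe u
open CategoryTheory CategoryTheory.Limits MonoidalCategory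
attribute [local instance] HasDerivedCategory.standard

namespace Helper5.Gen

open DerivedCategory DTen Groth.Agent.Lib.Helper5.KProj Groth.Agent.Lib.Helper5.KSixLT

variable {R A : Type u} [CommRing R] [CommRing A]

/-- the derived tensor product with any complex of modules exists -/
theorem hasLTensorCx (E : DRing.Cx A) : DRing.HasLTensorCx A E := by
  haveI := PtKan.hasPointwiseLeftDerivedFunctor Q (DRing.tensorCxQ A E) (W A) (enoughCx A E)
  infer_instance

variable (φ : R →+* A)

/-- `K ↦ (K ⊗^L_R A) ⊗^L_A W` is modelled on `F ↦ (F ⊗_R A) ⊗_A W` -/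
noncomputable def ltModel (W : DRing.Cx A) [DRing.HasLBaseChange φ] [DRing.HasLTensorCx A W] :
    Model φ W (DRing.LBaseChange φ ⋙ DRing.LTensorCx A W) where
  α :=
    { app := fun F => (DRing.LTensorCx A W).map ((lbcCmp φ).app F) ≫
        (counit A W).app ((extCx φ).obj F)
      naturality := fun F F' f => by
        have h1 := (lbcCmp φ).naturality f
        have h2 := (counit A W).naturality ((extCx φ).map f)
        dsimp only [Functor.comp_map, Functor.comp_obj] at h1 h2 ⊢
        rw [← Category.assoc, ← Functor.map_comp, h1, Functor.map_comp, Category.assoc,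
          Category.assoc]
        congr 1 }
  isIso := fun F hF => by
    haveI := hF
    haveI := isIso_counit_app A W ((extCx φ).obj F)
    dsimp only
    infer_instance

end Helper5.Gen

namespace Helper5.Gen

open DerivedCategory DTen Groth.Agent.Lib.Helper5.KProj Groth.Agent.Lib.Helper5.KSixLT

variable {R A : Type u} [CommRing R] [CommRing A] (φ : R →+* A)

/-- **the perfect formula, concretely**: for `A` perfect over `R` and `W` a complex of `A`-modules
representing `Rφ(R)`, `Rφ(K) ≅ (K ⊗^L_R A) ⊗^L_A W` naturally in `K` -/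
theorem nonempty_LT_iso {Rφ : Dual.D R ⥤ Dual.D A} (adj : DRing.restrictD φ ⊣ Rφ)
    (hperf : DRing.IsPerfect R ((DRing.restrictD φ).obj (Dual.inD A A)))
    (W : DRing.Cx A) [DRing.HasLBaseChange φ] [DRing.HasLTensorCx A W]
    (e : Q.obj W ≅ Rφ.obj (Q.obj (𝟙_ (DRing.Cx R)))) :
    Nonempty (DRing.LBaseChange φ ⋙ DRing.LTensorCx A W ≅ Rφ) := by
  refine nonempty_iso_of_model φ adj hperf W ((adj.homEquiv _ _).symm e.hom) ?_ (ltModel φ W)
  rw [Equiv.apply_symm_apply]
  infer_instance

/-- the shift isomorphism in the second variable of the tensor product -/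
noncomputable abbrev sh₂ {B : Type u} [CommRing B] (K L : DRing.Cx B) (n : ℤ) :
    K ⊗ (L⟦n⟧) ≅ (K ⊗ L)⟦n⟧ :=
  CochainComplex.mapBifunctorShift₂Iso K L (curriedTensor (ModuleCat.{u} B)) n

/-- `X ⊗^L W[k] ≅ (X ⊗^L W)[k]` -/
theorem nonempty_LT_shift_iso (W : DRing.Cx A) (k : ℤ) [DRing.HasLTensorCx A W]
    [DRing.HasLTensorCx A (W⟦k⟧)] (X : Dual.D A) :
    Nonempty ((DRing.LTensorCx A (W⟦k⟧)).obj X ≅ ((DRing.LTensorCx A W).obj X)⟦k⟧) := by
  obtain ⟨P, hP, ⟨eP⟩⟩ := exists_kproj_rep X
  haveI := hP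
  exact ⟨(DRing.LTensorCx A (W⟦k⟧)).mapIso eP.symm ≪≫ ltIso A (W⟦k⟧) P ≪≫
    Q.mapIso (sh₂ P W k) ≪≫ (Q.commShiftIso k).app (P ⊗ W) ≪≫
    (CategoryTheory.shiftFunctor (Dual.D A) k).mapIso
      ((ltIso A W P).symm ≪≫ (DRing.LTensorCx A W).mapIso eP)⟩

/-- the unit complex represents the ring -/
noncomputable def lbcUnitIso [DRing.HasLBaseChange φ] :
    (DRing.LBaseChange φ).obj (Dual.inD R R) ≅ Q.obj (𝟙_ (DRing.Cx A)) :=
  lbcIso φ (𝟙_ (DRing.Cx R)) ≪≫ Q.mapIso (ε₀ φ)

/-- derived base change along equal maps -/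
noncomputable def lbcEqIso {f g : R →+* A} (h : f = g) [DRing.HasLBaseChange f]
    [DRing.HasLBaseChange g] : DRing.LBaseChange f ≅ DRing.LBaseChange g := by
  subst h
  exact Iso.refl _

end Helper5.Gen
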