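import Mathlib
import Groth.Agent.Lib.Helper5.TorAmp.PerfHom
import Groth.Agent.Lib.Helper3.FinCoh
import Groth.Agent.Lib.Helper5.DRing.PerfRes
import Groth.Agent.Lib.Helper5.DRing.PCHom

/-!
# A flat finite-type algebra over a Noetherian ring is perfect over a polynomial ring surjecting
onto it
-/

set_option autoImplicit false
universe u
open CategoryTheory Limits Pretriangulated DerivedCategory
attribute [local instance] HasDerivedCategory.standard

namespace Helper5.Gen
open Groth.Agent.Helper5.TorAmp Groth.Agent.Helper5.PolyTor Groth.Agent.Helper5.PerfHom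

theorem perfect_of_flat_presentation (R A : Type u) [CommRing R] [CommRing A]
    [IsNoetherianRing R] [Algebra R A] [Module.Flat R A] (n : ℕ)
    (ψ : MvPolynomial (Fin n) R →ₐ[R] A) (hψ : Function.Surjective ψ) :
    DRing.IsPerfect (MvPolynomial (Fin n) R)
      ((DRing.restrictD ψ.toRingHom).obj (Dual.inD A A)) := by
  letI := ψ.toRingHom.toAlgebra
  haveI : Module.Finite (MvPolynomial (Fin n) R) A :=
    Module.Finite.of_surjective (Algebra.linearMap (MvPolynomial (Fin n) R) A) hψ
  have hpc : DRing.IsPseudoCoherent' (MvPolynomial (Fin n) R)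
      (Dual.inD (MvPolynomial (Fin n) R) A) :=
    Groth.Agent.Helper3.FinCoh.pseudoCoherent_inD (A := MvPolynomial (Fin n) R) A
  haveI : Module.Flat R (ModuleCat.of R A) := inferInstanceAs (Module.Flat R A)
  have h1 : DRing.HasTorAmplitudeIn R (-((0 : ℕ) : ℤ)) 0 (Dual.inD R A) := by
    simpa using hasTorAmplitudeIn_single_of_flat (ModuleCat.of R A)
  have h2 := torAmp_mv n R 0 (ModuleCat.of (MvPolynomial (Fin n) R) A)
    (hasTorAmplitudeIn_of_iso (resIso ψ).symm h1)
  have hperf : DRing.IsPerfect (MvPolynomial (Fin n) R)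
      (Dual.inD (MvPolynomial (Fin n) R) A) := (s6954 _).2 ⟨hpc, _, _, h2⟩
  refine Groth.Agent.Helper5.PerfRes.perfect_of_iso ?_ hperf
  exact (DerivedCategory.singleFunctor _ 0).mapIso
      (Groth.Agent.Helper5.PCHom.algEquiv (B := MvPolynomial (Fin n) R) (C := A)).toModuleIso.symm ≪≫
    (Groth.Agent.Helper5.PCHom.restrictDSingle (algebraMap (MvPolynomial (Fin n) R) A)
      (ModuleCat.of A A)).symm

end Helper5.Gen
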