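import Mathlib
import Groth.Prelude.Def_DualSh
import Groth.Agent.Lib.Helper5.Gen.LTModel
import Groth.Agent.Lib.Helper5.Gen.PerfFlat
import Groth.Agent.Lib.Helper5.Shriek.Calc

/-!
# The upper shriek of a flat finite type map is `K ↦ (K ⊗^L_R A) ⊗^L_A ω`
-/

set_option autoImplicit false
set_option linter.unusedSectionVars false
set_option linter.unusedVariables false
set_option linter.style.haveILetI false
universe u
open CategoryTheory CategoryTheory.Limits MonoidalCategory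
attribute [local instance] HasDerivedCategory.standard

namespace Helper5.Gen

open DerivedCategory DTen Helper5.Shriek

theorem shriek_flat_formula (R A : Type u) [CommRing R] [CommRing A] [IsNoetherianRing R]
    [IsNoetherianRing A] [Algebra R A] [Module.Flat R A] (n : ℕ)
    (ψ : MvPolynomial (Fin n) R →ₐ[R] A) (hψ : Function.Surjective ψ)
    [DRing.HasLBaseChange (algebraMap R (MvPolynomial (Fin n) R))]
    (Rψ : Dual.D (MvPolynomial (Fin n) R) ⥤ Dual.D A) (adj : DRing.restrictD ψ.toRingHom ⊣ Rψ)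
    (W : DRing.Cx A) (hW : Nonempty (DRing.toD W ≅ Dual2.shriekVia n Rψ (Dual.inD R R)))
    [DRing.HasLBaseChange (algebraMap R A)] [DRing.HasLTensorCx A W] (K : Dual.D R) :
    Nonempty (Dual2.shriekVia n Rψ K ≅
      (DRing.LTensorCx A W).obj ((DRing.LBaseChange (algebraMap R A)).obj K)) := by
  obtain ⟨eW⟩ := hW
  have hperf := perfect_of_flat_presentation R A n ψ hψ
  haveI := hasLTensorCx (W⟦(-(n : ℤ))⟧)
  let e : Q.obj (W⟦(-(n : ℤ))⟧) ≅ Rψ.obj (Q.obj (𝟙_ (DRing.Cx (MvPolynomial (Fin n) R)))) :=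
    (Q.commShiftIso (-(n : ℤ))).app W ≪≫
      (CategoryTheory.shiftFunctor (Dual.D A) (-(n : ℤ))).mapIso eW ≪≫
      shiftShiftNeg _ (n : ℤ) ≪≫
      Rψ.mapIso (lbcUnitIso (algebraMap R (MvPolynomial (Fin n) R)))
  obtain ⟨τ⟩ := nonempty_LT_iso ψ.toRingHom adj hperf (W⟦(-(n : ℤ))⟧) e
  obtain ⟨s⟩ := nonempty_LT_shift_iso W (-(n : ℤ))
    ((DRing.LBaseChange (algebraMap R A)).obj K)
  have hcomp : ψ.toRingHom.comp (algebraMap R (MvPolynomial (Fin n) R)) = algebraMap R A :=
    RingHom.ext fun r => ψ.commutes r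
  let c : (DRing.LBaseChange ψ.toRingHom).obj
      ((DRing.LBaseChange (algebraMap R (MvPolynomial (Fin n) R))).obj K) ≅
      (DRing.LBaseChange (algebraMap R A)).obj K :=
    ((lbcCompIso (algebraMap R (MvPolynomial (Fin n) R)) ψ.toRingHom).app K).symm ≪≫
      (lbcEqIso hcomp).app K
  exact ⟨(CategoryTheory.shiftFunctor (Dual.D A) (n : ℤ)).mapIso
      ((τ.app _).symm ≪≫ (DRing.LTensorCx A (W⟦(-(n : ℤ))⟧)).mapIso c ≪≫ s) ≪≫
    shiftNegShift _ (n : ℤ)⟩

end Helper5.Gen
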