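import Mathlib
import Groth.Prelude.Def_DTen5
import Groth.Agent.Lib.Helper5.DRing.Classes
import Groth.Agent.Lib.Helper5.DRing.PerfRes
import Groth.Agent.Lib.Helper5.DRing.PCHom

/-!
# A quotient by an invertible ideal is perfect
-/

set_option autoImplicit false
set_option linter.unusedSectionVars false
set_option linter.unusedVariables false
set_option linter.style.haveILetI false
universe u
open CategoryTheory CategoryTheory.Limits
attribute [local instance] HasDerivedCategory.standard

namespace Helper5.InvIdeal

open DerivedCategory

/-- a finite projective module placed in degree zero is perfect -/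
theorem perfect_inD_of_finite_projective (R : Type u) [CommRing R] (M : Type u) [AddCommGroup M]
    [Module R M] [Module.Finite R M] [Module.Projective R M] :
    DRing.IsPerfect R (Dual.inD R M) := by
  refine ⟨(CochainComplex.singleFunctor (ModuleCat.{u} R) 0).obj (ModuleCat.of R M), 0, 0, ?_, ?_,
    ⟨((singleFunctorIsoCompQ (ModuleCat.{u} R) 0).app (ModuleCat.of R M)).symm⟩⟩
  · intro i hi
    exact HomologicalComplex.isZero_single_obj_X (ComplexShape.up ℤ) 0 _ i (by omega)
  · intro i
    by_cases h : i = 0
    · subst h
      let e : (((CochainComplex.singleFunctor (ModuleCat.{u} R) 0).obj (ModuleCat.of R M)).X 0) ≃ₗ[R]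
          M := (HomologicalComplex.singleObjXSelf (ComplexShape.up ℤ) 0
            (ModuleCat.of R M)).toLinearEquiv
      exact ⟨Module.Finite.equiv e.symm, Module.Projective.of_equiv e.symm⟩
    · have hz := HomologicalComplex.isZero_single_obj_X (ComplexShape.up ℤ) 0
        (ModuleCat.of R M) i h
      haveI : Subsingleton (((CochainComplex.singleFunctor (ModuleCat.{u} R) 0).obj
          (ModuleCat.of R M)).X i) := ModuleCat.subsingleton_of_isZero hz
      exact ⟨inferInstance, inferInstance⟩

variable (R A : Type u) [CommRing R] [CommRing A] [Algebra R A]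

/-- the sequence `0 → I → R → A → 0` -/
noncomputable def sc : ShortComplex (ModuleCat.{u} R) :=
  ShortComplex.mk (X₁ := ModuleCat.of R (RingHom.ker (algebraMap R A)))
    (X₂ := ModuleCat.of R R) (X₃ := ModuleCat.of R A)
    (ModuleCat.ofHom (Submodule.subtype (RingHom.ker (algebraMap R A))))
    (ModuleCat.ofHom (Algebra.linearMap R A)) (by
      ext x
      exact x.2)

variable {R A}

theorem sc_shortExact (hφ : Function.Surjective (algebraMap R A)) : (sc R A).ShortExact := by
  haveI : Mono (sc R A).f := (ModuleCat.mono_iff_injective _).2 Subtype.val_injective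
  haveI : Epi (sc R A).g := (ModuleCat.epi_iff_surjective _).2 hφ
  refine ShortComplex.ShortExact.mk ?_
  rw [ShortComplex.moduleCat_exact_iff]
  intro x hx
  exact ⟨⟨x, hx⟩, rfl⟩

theorem perfect_inD_quot (hφ : Function.Surjective (algebraMap R A))
    [Module.Invertible R (RingHom.ker (algebraMap R A))] :
    DRing.IsPerfect R (Dual.inD R A) :=
  (Groth.Agent.Helper5.DRingCone.perfect_two_of_three _
    (sc_shortExact hφ).singleTriangle_distinguished).1
    (perfect_inD_of_finite_projective R (RingHom.ker (algebraMap R A)))
    (perfect_inD_of_finite_projective R R)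

theorem perfect_restrict_unit (hφ : Function.Surjective (algebraMap R A))
    [Module.Invertible R (RingHom.ker (algebraMap R A))] :
    DRing.IsPerfect R ((DRing.restrictD (algebraMap R A)).obj (Dual.inD A A)) := by
  refine Groth.Agent.Helper5.PerfRes.perfect_of_iso ?_ (perfect_inD_quot hφ)
  exact (DerivedCategory.singleFunctor _ 0).mapIso
      (Groth.Agent.Helper5.PCHom.algEquiv (B := R) (C := A)).toModuleIso.symm ≪≫
    (Groth.Agent.Helper5.PCHom.restrictDSingle (algebraMap R A) (ModuleCat.of A A)).symm

end Helper5.InvIdeal
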