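import Mathlib
import Groth.Agent.Lib.Helper5.DMod.ExtRes
import Groth.Agent.Lib.Helper5.Gen.InvPerf

/-!
# `Ext_R(R/I, R)` for an invertible ideal `I`
-/

set_option autoImplicit false
set_option linter.unusedSectionVars false
set_option linter.unusedVariables false
set_option linter.style.haveILetI false
universe u
open CategoryTheory CategoryTheory.Limits Abelian

namespace Helper5.InvIdeal

variable {R A : Type u} [CommRing R] [CommRing A] [Algebra R A]
  (hφ : Function.Surjective (algebraMap R A))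
  [Module.Invertible R (RingHom.ker (algebraMap R A))]

instance projective_X₁ : Projective (sc R A).X₁ :=
  (IsProjective.iff_projective (R := R) (RingHom.ker (algebraMap R A))).1 inferInstance

instance projective_X₂ : Projective (sc R A).X₂ :=
  (IsProjective.iff_projective (R := R) R).1 inferInstance

include hφ in
/-- `Hom_R(R/I, R) = 0` -/
lemma hom_eq_zero (f : ModuleCat.of R A ⟶ ModuleCat.of R R) : f = 0 := by
  have h1 : ∀ x : RingHom.ker (algebraMap R A), (f.hom (1 : A) : R) • x = (0 : R) • x := by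
    intro x
    apply Subtype.ext
    show f.hom 1 * x.1 = 0 * x.1
    have hx : x.1 • (1 : A) = 0 := by
      rw [Algebra.smul_def, mul_one]
      exact x.2
    have h2 := f.hom.map_smul x.1 (1 : A)
    rw [hx, map_zero] at h2
    rw [zero_mul, mul_comm]
    exact h2.symm
  have h0 : f.hom (1 : A) = 0 := eq_of_smul_eq_smul (α := RingHom.ker (algebraMap R A)) h1
  ext a
  obtain ⟨r, rfl⟩ := hφ a
  show f.hom (algebraMap R A r) = 0
  rw [Algebra.algebraMap_eq_smul_one, map_smul, h0, smul_zero]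

include hφ in
lemma subsingleton_ext_zero : Subsingleton (Ext (ModuleCat.of R A) (ModuleCat.of R R) 0) := by
  refine ⟨fun a b => ?_⟩
  obtain ⟨f, rfl⟩ := (Ext.mk₀_bijective _ _).2 a
  obtain ⟨g, rfl⟩ := (Ext.mk₀_bijective _ _).2 b
  rw [hom_eq_zero hφ f, hom_eq_zero hφ g]

include hφ in
lemma subsingleton_ext_ge_two (n : ℕ) :
    Subsingleton (Ext (ModuleCat.of R A) (ModuleCat.of R R) (n + 2)) := by
  refine ⟨fun a b => ?_⟩
  have h := Helper5.DMod.ext_eq_zero_of_projective_resolution (sc_shortExact hφ)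
    (ModuleCat.of R R) n
  rw [h a, h b]

/-- `ψ ↦ [0 → I → R → A → 0] ∘ ψ` -/
noncomputable def Φ : ((sc R A).X₁ ⟶ ModuleCat.of R R) →ₗ[R]
    Ext (ModuleCat.of R A) (ModuleCat.of R R) 1 :=
  (Ext.bilinearCompOfLinear R (ModuleCat.of R A) (sc R A).X₁ (ModuleCat.of R R) 1 0 1 (add_zero 1)
    (sc_shortExact hφ).extClass).comp (Ext.linearEquiv₀ (R := R)).symm.toLinearMap

lemma Φ_apply (ψ : (sc R A).X₁ ⟶ ModuleCat.of R R) :
    Φ hφ ψ = (sc_shortExact hφ).extClass.comp (Ext.mk₀ ψ) (add_zero 1) := by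
  have : (Ext.linearEquiv₀ (R := R)).symm ψ = Ext.mk₀ ψ := by
    apply (Ext.linearEquiv₀ (R := R)).injective
    rw [LinearEquiv.apply_symm_apply]
    exact ((Ext.mk₀_bijective _ _).1 (Ext.mk₀_linearEquiv₀_apply (R := R) (Ext.mk₀ ψ))).symm
  show (sc_shortExact hφ).extClass.comp ((Ext.linearEquiv₀ (R := R)).symm ψ) (add_zero 1) = _
  rw [this]

lemma Φ_surjective : Function.Surjective (Φ hφ) := by
  intro x
  have h₂ : (Ext.mk₀ (sc R A).g).comp x (zero_add _) = 0 := Ext.eq_zero_of_projective _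
  obtain ⟨x₁, hx₁⟩ := Ext.contravariant_sequence_exact₃ (sc_shortExact hφ) (ModuleCat.of R R) x h₂
    (n₀ := 0) (by lia)
  obtain ⟨ψ, rfl⟩ := (Ext.mk₀_bijective _ _).2 x₁
  exact ⟨ψ, (Φ_apply hφ ψ).trans hx₁⟩

lemma Φ_eq_zero_iff (ψ : (sc R A).X₁ ⟶ ModuleCat.of R R) :
    Φ hφ ψ = 0 ↔ ∃ r : R, ψ = (sc R A).f ≫ ModuleCat.ofHom (r • LinearMap.id) := by
  rw [Φ_apply]
  constructor
  · intro h
    obtain ⟨x₂, hx₂⟩ := Ext.contravariant_sequence_exact₁ (sc_shortExact hφ) (ModuleCat.of R R)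
      (Ext.mk₀ ψ) (by lia) h
    obtain ⟨φ', rfl⟩ := (Ext.mk₀_bijective _ _).2 x₂
    rw [Ext.mk₀_comp_mk₀] at hx₂
    have h3 : (sc R A).f ≫ φ' = ψ := (Ext.mk₀_bijective _ _).1 hx₂
    refine ⟨φ'.hom (1 : R), ?_⟩
    rw [← h3]
    congr 1
    ext
    show φ'.hom (1 : R) = φ'.hom (1 : R) • (1 : R)
    rw [smul_eq_mul, mul_one]
  · rintro ⟨r, rfl⟩
    rw [← Ext.mk₀_comp_mk₀, (sc_shortExact hφ).extClass_comp_assoc]
    rfl

/-- `ψ ↦ (R → A) ∘ ψ` -/
noncomputable def Ξ : ((sc R A).X₁ ⟶ ModuleCat.of R R) →ₗ[R]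
    (RingHom.ker (algebraMap R A) →ₗ[R] A) where
  toFun ψ := (Algebra.linearMap R A).comp ψ.hom
  map_add' ψ ψ' := by
    ext x
    show algebraMap R A ((ψ + ψ').hom x) = algebraMap R A (ψ.hom x) + algebraMap R A (ψ'.hom x)
    rw [ModuleCat.hom_add, LinearMap.add_apply, map_add]
  map_smul' r ψ := by
    ext x
    show algebraMap R A ((r • ψ).hom x) = r • algebraMap R A (ψ.hom x)
    rw [ModuleCat.hom_smul, LinearMap.smul_apply]
    exact (Algebra.linearMap R A).map_smul r (ψ.hom x)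

lemma Ξ_apply (ψ : (sc R A).X₁ ⟶ ModuleCat.of R R) (x : RingHom.ker (algebraMap R A)) :
    Ξ (R := R) (A := A) ψ x = algebraMap R A (ψ.hom x) := rfl

include hφ in
lemma Ξ_surjective : Function.Surjective (Ξ (R := R) (A := A)) := by
  intro g
  obtain ⟨h, hh⟩ := Module.projective_lifting_property (Algebra.linearMap R A) g hφ
  refine ⟨ModuleCat.ofHom h, ?_⟩
  ext x
  exact LinearMap.congr_fun hh x

lemma Ξ_eq_zero_iff (ψ : (sc R A).X₁ ⟶ ModuleCat.of R R) :
    Ξ (R := R) (A := A) ψ = 0 ↔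
      ∃ r : R, ψ = (sc R A).f ≫ ModuleCat.ofHom (r • LinearMap.id) := by
  constructor
  · intro h
    have hmem : ∀ x : RingHom.ker (algebraMap R A), ψ.hom x ∈ RingHom.ker (algebraMap R A) := by
      intro x
      exact LinearMap.congr_fun h x
    let ψ' : RingHom.ker (algebraMap R A) →ₗ[R] RingHom.ker (algebraMap R A) :=
      LinearMap.codRestrict (Submodule.restrictScalars R (RingHom.ker (algebraMap R A))) ψ.hom hmem
    obtain ⟨r, hr⟩ := (Module.Invertible.toModuleEnd_bijective R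
      (RingHom.ker (algebraMap R A))).2 ψ'
    refine ⟨r, ?_⟩
    ext x
    have h1 := LinearMap.congr_fun hr x
    have h2 : ((ψ' x : RingHom.ker (algebraMap R A)) : R) = ψ.hom x := rfl
    rw [← h2, ← h1]
    rfl
  · rintro ⟨r, rfl⟩
    ext x
    rw [Ξ_apply]
    show algebraMap R A (r • (x : R)) = 0
    rw [smul_eq_mul, map_mul, show algebraMap R A (x : R) = 0 from x.2, mul_zero]

lemma ker_Φ_eq : LinearMap.ker (Φ hφ) = LinearMap.ker (Ξ (R := R) (A := A)) := by
  ext ψ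
  rw [LinearMap.mem_ker, LinearMap.mem_ker, Φ_eq_zero_iff, Ξ_eq_zero_iff]

/-- `Ext¹_R(R/I, R) ≅ Hom_R(I, R/I)` -/
noncomputable def extOneEquiv :
    Ext (ModuleCat.of R A) (ModuleCat.of R R) 1 ≃ₗ[R] (RingHom.ker (algebraMap R A) →ₗ[R] A) :=
  ((Φ hφ).quotKerEquivOfSurjective (Φ_surjective hφ)).symm ≪≫ₗ
    Submodule.quotEquivOfEq _ _ (ker_Φ_eq hφ) ≪≫ₗ
    (Ξ (R := R) (A := A)).quotKerEquivOfSurjective (Ξ_surjective hφ)

end Helper5.InvIdeal
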