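import Mathlib
import Groth.Agent.Lib.Helper5.Gen.InvExt
import Groth.Agent.Lib.Helper3.HomUnit
import Groth.Agent.Lib.Helper3.FinAdj5

/-!
# `RHom_R(R/I, R) ≅ N[-1]` for an invertible ideal `I`, `N` the inverse of `I/I²`
-/

set_option autoImplicit false
set_option linter.unusedSectionVars false
set_option linter.unusedVariables false
set_option linter.style.haveILetI false
universe u
open CategoryTheory CategoryTheory.Limits Abelian TensorProduct
attribute [local instance] HasDerivedCategory.standard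

namespace Helper5.InvIdeal

open DerivedCategory Groth.Agent.Helper3.HomUnit Groth.Agent.Helper3.FinAdj

variable {R A : Type u} [CommRing R] [CommRing A] [Algebra R A]
  (hφ : Function.Surjective (algebraMap R A))
  [Module.Invertible R (RingHom.ker (algebraMap R A))]

include hφ in
/-- `Ext^i_R(R/I, R) = 0` for `i ≠ 1`, in the derived category -/
lemma hom_subsingleton (i : ℤ) (hi : i ≠ 1) :
    Subsingleton (Dual.inD R A ⟶ (Dual.inD R R)⟦i⟧) := by
  by_cases hn : 0 ≤ i
  · obtain ⟨k, rfl⟩ := Int.eq_ofNat_of_zero_le hn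
    refine (Ext.homEquiv (X := ModuleCat.of R A) (Y := ModuleCat.of R R)
      (n := k)).subsingleton_congr.mp ?_
    match k, hi with
    | 0, _ => exact subsingleton_ext_zero hφ
    | 1, h => exact absurd rfl h
    | n + 2, _ => exact subsingleton_ext_ge_two hφ n
  · push Not at hn
    refine ⟨fun a b => ?_⟩
    have : ∀ g : Dual.inD R A ⟶ (Dual.inD R R)⟦i⟧, g = 0 := by
      intro g
      have : TStructure.t.IsGE ((Dual.inD R R)⟦i⟧) (-i) :=
        TStructure.t.isGE_shift _ 0 i (-i) (by lia)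
      exact TStructure.t.zero g 0 (-i) (by lia)
    rw [this a, this b]

variable {Rφ : Dual.D R ⥤ Dual.D A} (adj : DRing.restrictD (algebraMap R A) ⊣ Rφ)

include hφ adj in
lemma HD_subsingleton (i : ℤ) (hi : i ≠ 1) :
    Subsingleton (Dual.HD A (Rφ.obj (Dual.inD R R)) i) := by
  haveI := hom_subsingleton hφ i hi
  haveI : Subsingleton (Dual.inD A A ⟶ (Rφ.obj (Dual.inD R R))⟦i⟧) :=
    (extT adj A (Dual.inD R R) i).toEquiv.subsingleton
  exact (unitEquiv (Rφ.obj (Dual.inD R R)) i).symm.toEquiv.subsingleton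

/-- `H¹(RHom(A, R)) ≅ Hom_R(I, A)`, additively -/
noncomputable def h1AddEquiv :
    Dual.HD A (Rφ.obj (Dual.inD R R)) 1 ≃+ (RingHom.ker (algebraMap R A) →ₗ[R] A) :=
  ((unitEquiv (Rφ.obj (Dual.inD R R)) 1).symm.toAddEquiv.trans
    (extT adj A (Dual.inD R R) 1)).trans
    ((Ext.homLinearEquiv (R := R) (X := ModuleCat.of R A) (Y := ModuleCat.of R R)
      (n := 1)).symm.toAddEquiv.trans (extOneEquiv hφ).toAddEquiv)

lemma h1AddEquiv_smul (r : R) (x : Dual.HD A (Rφ.obj (Dual.inD R R)) 1) :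
    h1AddEquiv hφ adj (algebraMap R A r • x) = r • h1AddEquiv hφ adj x := by
  have ha : (unitEquiv (Rφ.obj (Dual.inD R R)) 1).symm (algebraMap R A r • x) =
      algebraMap R A r • (unitEquiv (Rφ.obj (Dual.inD R R)) 1).symm x :=
    LinearEquiv.map_smul _ _ _
  have hb := extT_smul adj A (Dual.inD R R) 1 r ((unitEquiv (Rφ.obj (Dual.inD R R)) 1).symm x)
  have hc := LinearEquiv.map_smul (Ext.homLinearEquiv (R := R) (X := ModuleCat.of R A)
    (Y := ModuleCat.of R R) (n := 1)).symm r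
      (extT adj A (Dual.inD R R) 1 ((unitEquiv (Rφ.obj (Dual.inD R R)) 1).symm x))
  have hd := LinearEquiv.map_smul (extOneEquiv hφ) r
    ((Ext.homLinearEquiv (R := R) (X := ModuleCat.of R A) (Y := ModuleCat.of R R) (n := 1)).symm
      (extT adj A (Dual.inD R R) 1 ((unitEquiv (Rφ.obj (Dual.inD R R)) 1).symm x)))
  show (extOneEquiv hφ) ((Ext.homLinearEquiv (R := R) (X := ModuleCat.of R A)
      (Y := ModuleCat.of R R) (n := 1)).symm (extT adj A (Dual.inD R R) 1
        ((unitEquiv (Rφ.obj (Dual.inD R R)) 1).symm (algebraMap R A r • x)))) = _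
  rw [ha, hb]
  exact (congrArg (extOneEquiv hφ) hc).trans hd

variable (N : Type u) [AddCommGroup N] [Module A N]
  (e : (A ⊗[R] (RingHom.ker (algebraMap R A))) ⊗[A] N ≃ₗ[A] A)

/-- `N ≅ (A ⊗ I)^∨` -/
noncomputable def d1 : N ≃ₗ[A] Module.Dual A (A ⊗[R] (RingHom.ker (algebraMap R A))) :=
  Module.Invertible.linearEquivDual (R := A) (M := N)
    (N := A ⊗[R] (RingHom.ker (algebraMap R A)))
      ((TensorProduct.comm A N (A ⊗[R] (RingHom.ker (algebraMap R A)))).trans e)

/-- `Hom_R(I, A) ≅ (A ⊗ I)^∨` -/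
noncomputable def d2 : (RingHom.ker (algebraMap R A) →ₗ[R] A) ≃ₗ[A]
    (A ⊗[R] (RingHom.ker (algebraMap R A)) →ₗ[A] A) :=
  LinearMap.liftBaseChangeEquiv (R := R) (M := RingHom.ker (algebraMap R A)) (N := A) A

/-- `Hom_R(I, A) ≅ N` -/
noncomputable def dualEquiv : (RingHom.ker (algebraMap R A) →ₗ[R] A) ≃ₗ[A] N :=
  d2.trans (d1 N e).symm

lemma dualEquiv_h1_smul (a : A) (x : Dual.HD A (Rφ.obj (Dual.inD R R)) 1) :
    dualEquiv N e (h1AddEquiv hφ adj (a • x)) = a • dualEquiv N e (h1AddEquiv hφ adj x) := by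
  obtain ⟨r, rfl⟩ := hφ a
  rw [h1AddEquiv_smul]
  have h : r • h1AddEquiv hφ adj x = algebraMap R A r • h1AddEquiv hφ adj x :=
    (algebraMap_smul A r _).symm
  rw [h]
  exact LinearEquiv.map_smul _ _ _

set_option maxRecDepth 8000 in
/-- `H¹(RHom(A, R)) ≅ N` -/
noncomputable def h1LinearEquiv : Dual.HD A (Rφ.obj (Dual.inD R R)) 1 ≃ₗ[A] N :=
  AddEquiv.toLinearEquiv ((h1AddEquiv hφ adj).trans (dualEquiv N e).toAddEquiv)
    (fun a x => dualEquiv_h1_smul hφ adj N e a x)

include hφ adj e in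
/-- **`RHom_R(A, R) ≅ N[-1]`** -/
theorem nonempty_iso_shift :
    Nonempty (Rφ.obj (Dual.inD R R) ≅ (Dual.inD A N)⟦(-1 : ℤ)⟧) := by
  haveI : (Rφ.obj (Dual.inD R R)).IsGE 1 := by
    rw [DerivedCategory.isGE_iff]
    intro i hi
    haveI := HD_subsingleton hφ adj i (by omega)
    exact ModuleCat.isZero_of_subsingleton _
  haveI : (Rφ.obj (Dual.inD R R)).IsLE 1 := by
    rw [DerivedCategory.isLE_iff]
    intro i hi
    haveI := HD_subsingleton hφ adj i (by omega)
    exact ModuleCat.isZero_of_subsingleton _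
  obtain ⟨M, ⟨eM⟩⟩ := DerivedCategory.exists_iso_singleFunctor_obj_of_isGE_of_isLE
    (Rφ.obj (Dual.inD R R)) 1
  let i1 : M ≅ ModuleCat.of A N :=
    ((singleFunctorCompHomologyFunctorIso (ModuleCat.{u} A) 1).app M).symm ≪≫
      (homologyFunctor (ModuleCat.{u} A) 1).mapIso eM.symm ≪≫
      (h1LinearEquiv hφ adj N e).toModuleIso
  exact ⟨eM ≪≫ (singleFunctor (ModuleCat.{u} A) 1).mapIso i1 ≪≫
    ((DerivedCategory.singleFunctors (ModuleCat.{u} A)).shiftIso (-1) 1 0 (by omega)).symm.app _⟩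

end Helper5.InvIdeal
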