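import Mathlib
import Groth.Agent.Lib.Helper5.Gen.FlatShriek
import Groth.Agent.Lib.Helper5.Shriek.OpenImm

/-!
# The upper shriek of an open immersion is derived base change, for all objects
-/

set_option autoImplicit false
set_option linter.unusedSectionVars false
set_option linter.unusedVariables false
set_option linter.style.haveILetI false
universe u
open CategoryTheory CategoryTheory.Limits MonoidalCategory
attribute [local instance] HasDerivedCategory.standard

namespace Helper5.Gen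

open DerivedCategory DTen Helper5.Shriek Groth.Agent.Lib.Helper5.KProj Groth.Agent.Lib.Helper5.KSixLT

/-- `X ⊗^L 𝟙 ≅ X` -/
theorem nonempty_LT_unit_iso {A : Type u} [CommRing A] [DRing.HasLTensorCx A (𝟙_ (DRing.Cx A))]
    (X : Dual.D A) : Nonempty ((DRing.LTensorCx A (𝟙_ (DRing.Cx A))).obj X ≅ X) := by
  obtain ⟨P, hP, ⟨eP⟩⟩ := exists_kproj_rep X
  haveI := hP
  exact ⟨(DRing.LTensorCx A (𝟙_ (DRing.Cx A))).mapIso eP.symm ≪≫ ltIso A (𝟙_ (DRing.Cx A)) P ≪≫
    Q.mapIso (ρ_ P) ≪≫ eP⟩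

theorem shriek_open_all (R R' : Type u) [CommRing R] [CommRing R'] [IsNoetherianRing R]
    [IsNoetherianRing R'] [Algebra R R']
    (hopen : AlgebraicGeometry.IsOpenImmersion
      (AlgebraicGeometry.Spec.map (CommRingCat.ofHom (algebraMap R R'))))
    (n : ℕ) (ψ : MvPolynomial (Fin n) R →ₐ[R] R') (hψ : Function.Surjective ψ)
    [DRing.HasLBaseChange (algebraMap R (MvPolynomial (Fin n) R))]
    (Rψ : Dual.D (MvPolynomial (Fin n) R) ⥤ Dual.D R') (adj : DRing.restrictD ψ.toRingHom ⊣ Rψ)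
    [DRing.HasLBaseChange (algebraMap R R')] (K : Dual.D R) :
    Nonempty (Dual2.shriekVia n Rψ K ≅ (DRing.LBaseChange (algebraMap R R')).obj K) := by
  haveI : Module.Flat R R' := flat_of_isOpenImmersion R R' hopen
  haveI : Algebra.IsEpi R R' := isEpi_of_isOpenImmersion R R' hopen
  haveI := hasLTensorCx (𝟙_ (DRing.Cx R'))
  obtain ⟨i0⟩ := shriek_of_epi_flat R R' n ψ hψ Rψ adj (Dual.inD R R) 0 (fun i hi =>
    ModuleCat.subsingleton_of_isZero (isZero_of_isGE (Dual.inD R R) 0 i hi))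
  obtain ⟨i1⟩ := shriek_flat_formula R R' n ψ hψ Rψ adj (𝟙_ (DRing.Cx R'))
    ⟨(i0 ≪≫ lbcUnitIso (algebraMap R R')).symm⟩ K
  obtain ⟨i2⟩ := nonempty_LT_unit_iso ((DRing.LBaseChange (algebraMap R R')).obj K)
  exact ⟨i1 ≪≫ i2⟩

end Helper5.Gen
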